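import Mathlib
import Cfsg.Agent.TID.BlkIso
import Cfsg.Agent.H672.Ext

/-!
# S4622, Sylow rows: the duality `χ ↦ Ind (χ ^ P) - χ` (helper1)

`N = Nm P` the normalizer of `P`.

* `fx Q α` : the average of `α` over the cosets of `Q`; `hc P χ` : the character of `N` on the `P`-fixed points;
* `du P χ = Ind (hc P χ) - χ`; `Cusp P χ` : no fixed points; `sd P χ` : `χ` if it is cuspidal, `du P χ` otherwise;
* `mm P χ ψ` : the multiplicity of `ψ` in the restriction of the character `sd P χ`;
* `PermAt p P h` : the matrix `mm` on the characters with `p`-part of the degree `p ^ h` is a permutation matrix.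
-/

set_option autoImplicit false
set_option linter.unusedSectionVars false

namespace Cfsg.Agent.TID.Syl

open Cfsg Cfsg.Agent.Characters.Core Cfsg.Agent.Characters
open Cfsg.Agent.TID.Blk (Nm)
open scoped ComplexConjugate

universe u v

section gen

variable {X : Type u} [Group X] [Finite X]

/-- The average over the cosets of `Q`. -/
noncomputable def fx (Q : Subgroup X) (α : X → ℂ) : X → ℂ :=
  haveI := Fintype.ofFinite Q
  fun g => (Nat.card Q : ℂ)⁻¹ * ∑ x : Q, α (g * x)

theorem fx_apply (Q : Subgroup X) [Fintype Q] (α : X → ℂ) (g : X) :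
    fx Q α g = (Nat.card Q : ℂ)⁻¹ * ∑ x : Q, α (g * x) := by
  unfold fx
  rw [Subsingleton.elim (Fintype.ofFinite Q) ‹Fintype Q›]

theorem fx_add (Q : Subgroup X) (α β : X → ℂ) : fx Q (α + β) = fx Q α + fx Q β := by
  have := Fintype.ofFinite Q
  funext g
  simp only [fx_apply, Pi.add_apply, Finset.sum_add_distrib, mul_add]

theorem fx_smul (Q : Subgroup X) (c : ℂ) (α : X → ℂ) : fx Q (c • α) = c • fx Q α := by
  have := Fintype.ofFinite Q
  funext g
  simp only [fx_apply, Pi.smul_apply, smul_eq_mul, ← Finset.mul_sum]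
  ring

/-- `fx` as a linear map. -/
noncomputable def fxL (Q : Subgroup X) : (X → ℂ) →ₗ[ℂ] (X → ℂ) where
  toFun := fx Q
  map_add' := fx_add Q
  map_smul' := fx_smul Q

theorem fx_zero (Q : Subgroup X) : fx Q 0 = 0 := (fxL Q).map_zero

theorem fx_sub (Q : Subgroup X) (α β : X → ℂ) : fx Q (α - β) = fx Q α - fx Q β := (fxL Q).map_sub α β

theorem fx_sum (Q : Subgroup X) {ι : Type v} (s : Finset ι) (α : ι → X → ℂ) :
    fx Q (∑ i ∈ s, α i) = ∑ i ∈ s, fx Q (α i) := map_sum (fxL Q) α s

theorem fx_mul_mem (Q : Subgroup X) (α : X → ℂ) (g : X) {y : X} (hy : y ∈ Q) : fx Q α (g * y) = fx Q α g := by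
  have := Fintype.ofFinite Q
  rw [fx_apply, fx_apply]
  congr 1
  refine Fintype.sum_equiv (Equiv.mulLeft (⟨y, hy⟩ : Q)) _ _ fun x => ?_
  rw [mul_assoc]; rfl

theorem fx_of_inv (Q : Subgroup X) {α : X → ℂ} (h : ∀ g, ∀ y ∈ Q, α (g * y) = α g) : fx Q α = α := by
  have := Fintype.ofFinite Q
  funext g
  rw [fx_apply, Finset.sum_congr rfl fun (x : Q) _ => h g x x.2, Finset.sum_const, Finset.card_univ,
    ← Nat.card_eq_fintype_card, nsmul_eq_mul, ← mul_assoc, inv_mul_cancel₀ card_ne_zero_complex, one_mul]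

theorem fx_fx (Q : Subgroup X) (α : X → ℂ) : fx Q (fx Q α) = fx Q α :=
  fx_of_inv Q fun g _ hy => fx_mul_mem Q α g hy

theorem fx_class (Q : Subgroup X) [hQ : Q.Normal] {α : X → ℂ} (hα : IsClassFunction X α) :
    IsClassFunction X (fx Q α) := by
  have := Fintype.ofFinite Q
  intro g h
  rw [fx_apply, fx_apply]
  congr 1
  refine (Fintype.sum_equiv (MulAut.conjNormal (H := Q) h).toEquiv _ _ fun x => ?_).symm
  have h1 : (((MulAut.conjNormal (H := Q) h).toEquiv x : Q) : X) = h * x * h⁻¹ := rfl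
  rw [h1, ← hα (g * x) h]
  congr 1
  group

theorem inner_fx [Fintype X] (Q : Subgroup X) (α β : X → ℂ) : classInner (fx Q α) β = classInner α (fx Q β) := by
  have := Fintype.ofFinite Q
  rw [classInner_def, classInner_def]
  congr 1
  simp only [fx_apply, map_mul, map_sum, map_inv₀, Complex.conj_natCast, Finset.mul_sum, Finset.sum_mul]
  rw [Finset.sum_comm, Finset.sum_comm (s := (Finset.univ : Finset X))]
  refine Fintype.sum_equiv (Equiv.inv Q) _ _ fun x => ?_
  refine Fintype.sum_equiv (Equiv.mulRight (x : X)) _ _ fun g => ?_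
  have h1 : (((Equiv.inv Q) x : Q) : X) = (x : X)⁻¹ := rfl
  rw [h1, Equiv.coe_mulRight, mul_inv_cancel_right]
  ring

/-- An irreducible character is fixed or killed. -/
theorem fx_irr (Q : Subgroup X) [hQ : Q.Normal] {ψ : X → ℂ} (hψ : IsIrrCharacter X ψ) :
    fx Q ψ = ψ ∨ fx Q ψ = 0 := by
  classical
  have := Fintype.ofFinite X
  have := Fintype.ofFinite Q
  obtain ⟨n, ρ, hirr, rfl⟩ := hψ
  obtain ⟨c, hc⟩ := exists_sum_smul_rho_inv_eq_smul_one (f := fun g => if g ∈ Q then (1 : ℂ) else 0) (by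
    intro g h
    have h1 : h * g * h⁻¹ ∈ Q ↔ g ∈ Q := ⟨fun h2 => by
      have h3 := hQ.conj_mem _ h2 h⁻¹
      rwa [show h⁻¹ * (h * g * h⁻¹) * h⁻¹⁻¹ = g by group] at h3, fun h2 => hQ.conj_mem _ h2 h⟩
    simp only [h1]) ρ hirr
  have h2 : ∑ x : Q, ρ (x : X) = c • (1 : Module.End ℂ (Fin n → ℂ)) := by
    rw [← hc]
    simp only [ite_smul, one_smul, zero_smul]
    rw [← Finset.sum_filter, Finset.sum_subtype (p := fun g => g ∈ Q) _ (by simp)]
    exact Fintype.sum_equiv (Equiv.inv Q) _ _ fun x => by simp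
  have h3 : fx Q ρ.character = ((Nat.card Q : ℂ)⁻¹ * c) • ρ.character := by
    funext g
    rw [fx_apply, Pi.smul_apply, smul_eq_mul, mul_assoc]
    congr 1
    have h4 : ∀ x : Q, ρ.character (g * x) = LinearMap.trace ℂ _ (ρ g * ρ (x : X)) := fun x => by
      rw [← map_mul]; rfl
    rw [Finset.sum_congr rfl fun x _ => h4 x, ← map_sum, ← Finset.mul_sum, h2, mul_smul_comm, mul_one, map_smul]
    rfl
  have h5 := fx_fx Q ρ.character
  rw [h3, fx_smul, h3, smul_smul] at h5
  have h6 := congrFun h5 1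
  rw [Pi.smul_apply, Pi.smul_apply, smul_eq_mul, smul_eq_mul] at h6
  have h7 := mul_right_cancel₀ (isIrr_apply_one_ne_zero ⟨n, ρ, hirr, rfl⟩) h6
  rw [h3]
  rcases eq_or_ne ((Nat.card Q : ℂ)⁻¹ * c) 0 with h8 | h8
  · right
    rw [h8, zero_smul]
  · left
    rw [mul_left_cancel₀ h8 (h7.trans (mul_one _).symm), one_smul]

theorem fx_char (Q : Subgroup X) [Q.Normal] {α : X → ℂ} (hα : IsCharacter X α) : IsCharacter X (fx Q α) := by
  have := finite_irr (G := X)
  have := Fintype.ofFinite (IrrCharacter X)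
  obtain ⟨m, rfl⟩ := exists_nat_comb hα
  rw [fx_sum]
  refine isCharacter_sum _ fun ψ _ => ?_
  rw [← Nat.cast_smul_eq_nsmul ℂ, fx_smul, Nat.cast_smul_eq_nsmul]
  refine isCharacter_nsmul _ ?_
  rcases fx_irr Q ψ.2 with h | h
  · rw [h]; exact isIrr_isCharacter ψ.2
  · rw [h]; exact isCharacter_zero

/-- `fx` and homomorphisms. -/
theorem fx_comp {Y : Type v} [Group Y] [Finite Y] (φ : Y →* X) (Q₀ : Subgroup Y) (Q : Subgroup X)
    (h1 : Q₀.map φ = Q) (h2 : ∀ y ∈ Q₀, φ y = 1 → y = 1) (α : X → ℂ) : fx Q α ∘ φ = fx Q₀ (α ∘ φ) := by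
  have := Fintype.ofFinite Q
  have := Fintype.ofFinite Q₀
  subst h1
  have hb : Function.Bijective (φ.subgroupMap Q₀) := by
    refine ⟨(injective_iff_map_eq_one _).2 fun y hy => Subtype.ext (h2 y y.2 (congrArg Subtype.val hy)),
      φ.subgroupMap_surjective Q₀⟩
  funext y
  rw [Function.comp_apply, fx_apply, fx_apply, Nat.card_congr (Equiv.ofBijective _ hb)]
  congr 1
  refine (Fintype.sum_equiv (Equiv.ofBijective _ hb) _ _ fun x => ?_).symm
  rw [Function.comp_apply, map_mul]
  rfl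

/-- A constituent can be subtracted. -/
theorem isCharacter_sub_irr [Fintype X] {α χ : X → ℂ} (hα : IsCharacter X α) (hχ : IsIrrCharacter X χ)
    (h : classInner α χ ≠ 0) : IsCharacter X (α - χ) := by
  refine Brauer.isCharacter_of_nat (fun g x => by
    rw [Pi.sub_apply, Pi.sub_apply, isCharacter_isClassFunction hα g x, isIrr_isClassFunction hχ g x]) fun ξ hξ => ?_
  rw [classInner_sub_left]
  obtain ⟨n, hn⟩ := classInner_isNat hα (isIrr_isCharacter hξ)
  by_cases h1 : χ = ξ
  · subst h1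
    rw [classInner_irr_self hχ, hn]
    rw [hn] at h
    obtain ⟨k, rfl⟩ : ∃ k, n = k + 1 := Nat.exists_eq_succ_of_ne_zero (by exact_mod_cast h)
    exact ⟨k, by push_cast; ring⟩
  · rw [classInner_irr_ne hχ hξ h1, hn]
    exact ⟨n, sub_zero _⟩

theorem inner_zero_of_add [Fintype X] {α β γ : X → ℂ} (hα : IsCharacter X α) (hβ : IsCharacter X β)
    (hγ : IsCharacter X γ) (h : classInner (α + β) γ = 0) : classInner α γ = 0 := by
  obtain ⟨a, ha⟩ := classInner_isNat hα hγ
  obtain ⟨b, hb⟩ := classInner_isNat hβ hγ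
  rw [classInner_add_left, ha, hb] at h
  have h1 : a + b = 0 := by exact_mod_cast h
  rw [ha, show a = 0 by omega, Nat.cast_zero]

theorem inner_symm_char [Fintype X] {α β : X → ℂ} (hα : IsCharacter X α) (hβ : IsCharacter X β) :
    classInner α β = classInner β α := by
  obtain ⟨a, ha⟩ := classInner_isNat hβ hα
  rw [← classInner_conj_symm, ha, Complex.conj_natCast]

/-- The `p`-valuation of the degree. -/
noncomputable def nu (p : ℕ) (χ : X → ℂ) : ℕ := (charDegree χ).factorization p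

end gen

variable {G : Type u} [Group G] [Finite G]

/-- The restriction to the normalizer. -/
abbrev rs (P : Subgroup G) (χ : G → ℂ) : Nm P → ℂ := fun n => χ n

/-- `P` as a subgroup of its normalizer. -/
abbrev PN (P : Subgroup G) : Subgroup (Nm P) := P.subgroupOf (Nm P)

theorem pn_normal (P : Subgroup G) : (PN P).Normal := Subgroup.normal_in_normalizer

/-- The character of the normalizer on the fixed points of `P`. -/
noncomputable def hc (P : Subgroup G) (χ : G → ℂ) : Nm P → ℂ := fx (PN P) (rs P χ)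

/-- The induction from the normalizer. -/
noncomputable def ind (P : Subgroup G) (φ : Nm P → ℂ) : G → ℂ :=
  haveI := Fintype.ofFinite G
  indFun (Nm P) φ

theorem ind_eq [Fintype G] (P : Subgroup G) (φ : Nm P → ℂ) : ind P φ = indFun (Nm P) φ := by
  unfold ind
  rw [Subsingleton.elim (Fintype.ofFinite G) ‹Fintype G›]

/-- The duality. -/
noncomputable def du (P : Subgroup G) (χ : G → ℂ) : G → ℂ := ind P (hc P χ) - χ

/-- No fixed points. -/
def Cusp (P : Subgroup G) (χ : G → ℂ) : Prop := hc P χ = 0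

open Classical in
/-- The dual with the sign. -/
noncomputable def sd (P : Subgroup G) (χ : G → ℂ) : G → ℂ := if Cusp P χ then χ else du P χ

/-- The multiplicity of `ψ` in the restriction of `sd P χ`. -/
noncomputable def mm (P : Subgroup G) (χ : G → ℂ) (ψ : Nm P → ℂ) : ℂ :=
  haveI := Fintype.ofFinite (Nm P)
  classInner (rs P (sd P χ)) ψ

theorem mm_eq (P : Subgroup G) [Fintype (Nm P)] (χ : G → ℂ) (ψ : Nm P → ℂ) :
    mm P χ ψ = classInner (rs P (sd P χ)) ψ := by
  unfold mm
  rw [Subsingleton.elim (Fintype.ofFinite (Nm P)) ‹Fintype (Nm P)›]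

/-- The matrix `mm` on the characters with `nu = h` is a permutation matrix. -/
structure PermAt (p : ℕ) (P : Subgroup G) (h : ℕ) : Prop where
  row : ∀ χ : IrrCharacter G, nu p (χ : G → ℂ) = h → ∃ ψ : IrrCharacter (Nm P), nu p (ψ : Nm P → ℂ) = h ∧
    mm P χ ψ = 1 ∧ ∀ ψ' : IrrCharacter (Nm P), nu p (ψ' : Nm P → ℂ) = h → ψ' ≠ ψ → mm P χ ψ' = 0
  col : ∀ ψ : IrrCharacter (Nm P), nu p (ψ : Nm P → ℂ) = h → ∃ χ : IrrCharacter G, nu p (χ : G → ℂ) = h ∧
    mm P χ ψ = 1 ∧ ∀ χ' : IrrCharacter G, nu p (χ' : G → ℂ) = h → χ' ≠ χ → mm P χ' ψ = 0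

/-- `PermAt` for all the positive heights. -/
def Perm (p : ℕ) (P : Subgroup G) : Prop := ∀ h, 0 < h → h < (Nat.card G).factorization p → PermAt p P h

section basic

variable (P : Subgroup G)

theorem hc_add (α β : G → ℂ) : hc P (α + β) = hc P α + hc P β := fx_add _ (rs P α) (rs P β)

theorem hc_smul (c : ℂ) (α : G → ℂ) : hc P (c • α) = c • hc P α := fx_smul _ c (rs P α)

theorem hc_sub (α β : G → ℂ) : hc P (α - β) = hc P α - hc P β := fx_sub _ (rs P α) (rs P β)

theorem hc_class {α : G → ℂ} (hα : IsClassFunction G α) : IsClassFunction (Nm P) (hc P α) :=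
  haveI := pn_normal P
  fx_class _ (Brauer.isClassFunction_restrict hα _)

theorem hc_char {α : G → ℂ} (hα : IsCharacter G α) : IsCharacter (Nm P) (hc P α) :=
  haveI := pn_normal P
  fx_char _ (Brauer.isCharacter_restrict hα _)

theorem fx_hc (α : G → ℂ) : fx (PN P) (hc P α) = hc P α := fx_fx _ _

theorem ind_class (φ : Nm P → ℂ) : IsClassFunction G (ind P φ) := by
  have := Fintype.ofFinite G
  rw [ind_eq]
  exact Brauer.indFun_isClassFunction _ _

theorem ind_char {φ : Nm P → ℂ} (hφ : IsCharacter (Nm P) φ) : IsCharacter G (ind P φ) :=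
  haveI := Fintype.ofFinite G
  ind_eq P φ ▸ Brauer.isCharacter_indFun _ hφ

theorem ind_add (φ φ' : Nm P → ℂ) : ind P (φ + φ') = ind P φ + ind P φ' := by
  have := Fintype.ofFinite G
  simp only [ind_eq]
  exact Brauer.indFun_add _ _ _

theorem ind_smul (c : ℂ) (φ : Nm P → ℂ) : ind P (c • φ) = c • ind P φ := by
  have := Fintype.ofFinite G
  simp only [ind_eq]
  exact Brauer.indFun_smul _ _ _

theorem ind_sub (φ φ' : Nm P → ℂ) : ind P (φ - φ') = ind P φ - ind P φ' := by
  have := Fintype.ofFinite G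
  simp only [ind_eq]
  exact Brauer.indFun_sub _ _ _

theorem ind_zero : ind P 0 = 0 := by
  have := Fintype.ofFinite G
  rw [ind_eq]
  exact Brauer.indFun_zero _

/-- Frobenius reciprocity. -/
theorem inner_ind_left [Fintype G] [Fintype (Nm P)] (φ : Nm P → ℂ) {α : G → ℂ} (hα : IsClassFunction G α) :
    classInner (ind P φ) α = classInner φ (rs P α) := by
  rw [ind_eq, Brauer.classInner_indFun _ _ _ _ hα]

theorem inner_ind_right [Fintype G] [Fintype (Nm P)] (φ : Nm P → ℂ) {α : G → ℂ} (hα : IsClassFunction G α) :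
    classInner α (ind P φ) = classInner (rs P α) φ := by
  rw [← classInner_conj_symm, inner_ind_left P φ hα, classInner_conj_symm]

theorem du_add (α β : G → ℂ) : du P (α + β) = du P α + du P β := by
  unfold du
  rw [hc_add, ind_add]
  abel

theorem du_smul (c : ℂ) (α : G → ℂ) : du P (c • α) = c • du P α := by
  unfold du
  rw [hc_smul, ind_smul, smul_sub]

/-- `du` as a linear map. -/
noncomputable def duL : (G → ℂ) →ₗ[ℂ] (G → ℂ) where
  toFun := du P
  map_add' := du_add P
  map_smul' := du_smul P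

theorem du_sum {ι : Type v} (s : Finset ι) (α : ι → G → ℂ) : du P (∑ i ∈ s, α i) = ∑ i ∈ s, du P (α i) :=
  map_sum (duL P) α s

theorem du_class {α : G → ℂ} (hα : IsClassFunction G α) : IsClassFunction G (du P α) := by
  intro g x
  unfold du
  rw [Pi.sub_apply, Pi.sub_apply, ind_class P _ g x, hα g x]

/-- The duality is self-adjoint. -/
theorem inner_du [Fintype G] {α β : G → ℂ} (hα : IsClassFunction G α) (hβ : IsClassFunction G β) :
    classInner (du P α) β = classInner α (du P β) := by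
  have := Fintype.ofFinite (Nm P)
  unfold du
  rw [classInner_sub_left, classInner_sub_right, inner_ind_left P _ hβ, inner_ind_right P _ hα]
  unfold hc
  rw [inner_fx]

variable {P}

theorem du_of_cusp {χ : G → ℂ} (h : Cusp P χ) : du P χ = -χ := by
  unfold du
  rw [show hc P χ = 0 from h, ind_zero, zero_sub]

theorem sd_of_cusp {χ : G → ℂ} (h : Cusp P χ) : sd P χ = χ := if_pos h

theorem sd_of_not {χ : G → ℂ} (h : ¬ Cusp P χ) : sd P χ = du P χ := if_neg h

theorem inner_ind_hc [Fintype G] [Fintype (Nm P)] {α : G → ℂ} (hα : IsClassFunction G α) :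
    classInner (ind P (hc P α)) α = classInner (hc P α) (hc P α) := by
  rw [inner_ind_left P _ hα]
  conv_lhs => rw [← fx_hc, inner_fx]
  rfl

theorem du_char {χ : G → ℂ} (hχ : IsIrrCharacter G χ) (h : ¬ Cusp P χ) : IsCharacter G (du P χ) := by
  have := Fintype.ofFinite G
  have := Fintype.ofFinite (Nm P)
  refine isCharacter_sub_irr (ind_char P (hc_char P (isIrr_isCharacter hχ))) hχ fun h1 => h ?_
  rw [inner_ind_hc (isIrr_isClassFunction hχ)] at h1
  exact classInner_self_eq_zero h1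

theorem sd_char {χ : G → ℂ} (hχ : IsIrrCharacter G χ) : IsCharacter G (sd P χ) := by
  by_cases h : Cusp P χ
  · rw [sd_of_cusp h]; exact isIrr_isCharacter hχ
  · rw [sd_of_not h]; exact du_char hχ h

theorem mm_nat {χ : G → ℂ} (hχ : IsIrrCharacter G χ) {ψ : Nm P → ℂ} (hψ : IsCharacter (Nm P) ψ) :
    ∃ n : ℕ, mm P χ ψ = n := by
  have := Fintype.ofFinite (Nm P)
  rw [mm_eq]
  exact classInner_isNat (Brauer.isCharacter_restrict (sd_char hχ) _) hψ

open Classical in
/-- The sign. -/
noncomputable def sgn (P : Subgroup G) (χ : G → ℂ) : ℂ := if Cusp P χ then -1 else 1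

theorem sd_eq (χ : G → ℂ) : sd P χ = sgn P χ • du P χ := by
  unfold sgn
  by_cases h : Cusp P χ
  · rw [sd_of_cusp h, if_pos h, du_of_cusp h, neg_one_smul, neg_neg]
  · rw [sd_of_not h, if_neg h, one_smul]

theorem sgn_sq (χ : G → ℂ) : sgn P χ * sgn P χ = 1 := by
  unfold sgn
  split_ifs <;> norm_num

theorem conj_sgn (χ : G → ℂ) : conj (sgn P χ) = sgn P χ := by
  unfold sgn
  split_ifs <;> simp

theorem mm_eq_sgn [Fintype (Nm P)] (χ : G → ℂ) (ψ : Nm P → ℂ) :
    mm P χ ψ = sgn P χ * classInner (rs P (du P χ)) ψ := by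
  rw [mm_eq, sd_eq, ← classInner_smul_left]
  rfl

/-- A character is cuspidal if and only if the sum of its values on `P` vanishes. -/
theorem cusp_iff {α : G → ℂ} (hα : IsCharacter G α) : Cusp P α ↔ hc P α 1 = 0 := by
  refine ⟨fun h => by rw [show hc P α = 0 from h]; rfl, fun h => ?_⟩
  obtain ⟨n, ρ, hρ⟩ := hc_char P hα
  have h1 : ρ.character 1 = n := by simp
  rw [hρ, h] at h1
  have h2 : n = 0 := by exact_mod_cast h1.symm
  subst h2
  unfold Cusp
  rw [← hρ]
  funext g
  unfold Representation.character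
  rw [Subsingleton.elim (ρ g) 0, map_zero]
  rfl

end basic

end Cfsg.Agent.TID.Syl
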