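import Mathlib
import Cfsg.Agent.TID.Syl.Defs

/-!
# S4622, Sylow rows: the transfer of `PermAt` along a homomorphism (helper1)

`f : H →* G` with normal range of index prime to `p`, `P = f P₀`, `f⁻¹ N = N₀`, `G = f(H) N`.

* `ind_comp`, `du_comp` : induction and the duality commute with the restriction along `f`;
* `perm_of_nat` : a nonnegative integer matrix `m` with `m b = a`, `mᵀ a = b`, `a, b > 0` is a permutation matrix;
* `PermAt.transfer`, `PermAt.transfer_sylow`, `Perm.transfer_sylow`.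
-/

set_option autoImplicit false
set_option linter.unusedSectionVars false

namespace Cfsg.Agent.TID.Syl

open Cfsg Cfsg.Agent.Characters.Core Cfsg.Agent.Characters
open Cfsg.Agent.TID.Blk (Nm)
open scoped ComplexConjugate

universe u v w

section matrix

theorem row_of_nat {I : Type u} {J : Type v} (A : Finset I) (B : Finset J) (m : I → J → ℕ) (a : I → ℕ) (b : J → ℕ)
    (h1 : ∀ i ∈ A, ∑ j ∈ B, m i j * b j = a i) (h2 : ∀ j ∈ B, ∑ i ∈ A, m i j * a i = b j)
    {i : I} (hi : i ∈ A) (ha : 0 < a i) : ∃ j ∈ B, m i j = 1 ∧ ∀ j' ∈ B, j' ≠ j → m i j' = 0 := by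
  classical
  have h3 : (∑ j ∈ B, m i j * m i j) * a i ≤ 1 * a i := by
    rw [one_mul, Finset.sum_mul]
    conv_rhs => rw [← h1 i hi]
    refine Finset.sum_le_sum fun j hj => ?_
    rw [mul_assoc, ← h2 j hj]
    exact Nat.mul_le_mul_left _ (Finset.single_le_sum (f := fun i => m i j * a i) (fun _ _ => Nat.zero_le _) hi)
  have h4 : ∑ j ∈ B, m i j * m i j ≤ 1 := Nat.le_of_mul_le_mul_right h3 ha
  obtain ⟨j, hj, hj0⟩ : ∃ j ∈ B, m i j ≠ 0 := by
    by_contra hcon
    push Not at hcon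
    rw [← h1 i hi, Finset.sum_eq_zero fun j hj => by rw [hcon j hj, zero_mul]] at ha
    exact lt_irrefl _ ha
  have h5 : 1 ≤ m i j * m i j := Nat.mul_pos (Nat.pos_of_ne_zero hj0) (Nat.pos_of_ne_zero hj0)
  refine ⟨j, hj, ?_, fun j' hj' hne => ?_⟩
  · have h6 := Finset.single_le_sum (f := fun j => m i j * m i j) (fun _ _ => Nat.zero_le _) hj
    have h7 : m i j * m i j = 1 := by omega
    exact Nat.eq_one_of_mul_eq_one_left h7
  · have h6 : ∑ x ∈ ({j', j} : Finset J), m i x * m i x ≤ ∑ j ∈ B, m i j * m i j :=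
      Finset.sum_le_sum_of_subset (by
        intro x hx
        rcases Finset.mem_insert.1 hx with rfl | hx
        · exact hj'
        · rw [Finset.mem_singleton.1 hx]; exact hj)
    rw [Finset.sum_pair hne] at h6
    have h7 : m i j' * m i j' = 0 := by omega
    exact (Nat.mul_eq_zero.1 h7).elim id id

end matrix

section nu

variable {H : Type v} [Group H] [Finite H] {G : Type u} [Group G] [Finite G] {p : ℕ} [hp : Fact p.Prime]

/-- The valuation of the degree along a homomorphism with normal range of index prime to `p`. -/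
theorem nu_eq_of_inner [Fintype H] (f : H →* G) (hn : f.range.Normal) (hidx : ¬ p ∣ f.range.index) {χ : G → ℂ}
    (hχ : IsIrrCharacter G χ) {θ : H → ℂ} (hθ : IsIrrCharacter H θ) (h : classInner (χ ∘ f) θ ≠ 0) :
    nu p χ = nu p θ := by
  have h1 : H672.Over (f.range.subtype.comp f.rangeRestrict) χ θ := by
    rw [H672.over_iff]; exact h
  obtain ⟨ξ, hξ, h2, h3⟩ := (H672.over_comp_iff _ _ (isIrr_isCharacter hχ) hθ).1 h1
  rw [H672.over_iff] at h3
  have h4 : IsIrrCharacter H (ξ ∘ f.rangeRestrict) := isIrr_comp _ f.rangeRestrict_surjective hξ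
  have h5 : ξ ∘ f.rangeRestrict = θ := by
    by_contra hne
    exact h3 (classInner_irr_ne h4 hθ hne)
  have h6 : charDegree θ = charDegree ξ := by rw [← h5, H672.charDegree_comp_one]
  obtain ⟨⟨c, hc⟩, h8⟩ := H672.charDegree_dvd_of_over f.range hχ hξ h2
  have h9 := (H672.charDegree_pos hξ).ne'
  rw [hc, Nat.mul_div_cancel_left c (Nat.pos_of_ne_zero h9)] at h8
  have h10 : c ≠ 0 := by
    rintro rfl
    exact (H672.charDegree_pos hχ).ne' (by rw [hc, mul_zero])
  unfold nu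
  rw [h6, hc, Nat.factorization_mul h9 h10, Finsupp.add_apply,
    Nat.factorization_eq_zero_of_not_dvd (fun h11 => hidx (h11.trans h8)), add_zero]

end nu

section comp

variable {H : Type v} [Group H] [Finite H] {G : Type u} [Group G] [Finite G] {f : H →* G} {P₀ : Subgroup H}
  {P : Subgroup G}

/-- The data of the transfer. -/
structure Hom (f : H →* G) (P₀ : Subgroup H) (P : Subgroup G) : Prop where
  map : P₀.map f = P
  inj : ∀ y ∈ P₀, f y = 1 → y = 1
  nor : ∀ y, f y ∈ Nm P → y ∈ Nm P₀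
  prod : ∀ g : G, ∃ y : H, ∃ n ∈ Nm P, g = f y * n

theorem Hom.mem (h : Hom f P₀ P) {y : H} (hy : y ∈ Nm P₀) : f y ∈ Nm P := by
  rw [← h.map]
  exact Subgroup.le_normalizer_map f ⟨y, hy, rfl⟩

/-- The restriction to the normalizers. -/
def Hom.fN (h : Hom f P₀ P) : Nm P₀ →* Nm P := (f.comp (Nm P₀).subtype).codRestrict (Nm P) fun y => h.mem y.2

theorem Hom.fN_apply (h : Hom f P₀ P) (y : Nm P₀) : (h.fN y : G) = f y := rfl

theorem Hom.rs_comp (h : Hom f P₀ P) (α : G → ℂ) : rs P α ∘ h.fN = rs P₀ (α ∘ f) := rfl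

theorem Hom.map_pn (h : Hom f P₀ P) : (PN P₀).map h.fN = PN P := by
  ext x
  constructor
  · rintro ⟨y, hy, rfl⟩
    have h1 : f y ∈ P₀.map f := ⟨y, hy, rfl⟩
    rw [h.map] at h1
    exact h1
  · intro hx
    have hx' : (x : G) ∈ P₀.map f := by rw [h.map]; exact hx
    obtain ⟨y, hy, hyx⟩ := hx'
    exact ⟨⟨y, Subgroup.le_normalizer hy⟩, hy, Subtype.ext hyx⟩

theorem Hom.fx_comp (h : Hom f P₀ P) (φ : Nm P → ℂ) : fx (PN P) φ ∘ h.fN = fx (PN P₀) (φ ∘ h.fN) :=
  Syl.fx_comp h.fN _ _ h.map_pn (fun y hy h1 => Subtype.ext (h.inj y hy (congrArg Subtype.val h1))) φ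

theorem Hom.hc_comp (h : Hom f P₀ P) (α : G → ℂ) : hc P α ∘ h.fN = hc P₀ (α ∘ f) := h.fx_comp _

theorem Hom.range_fN (h : Hom f P₀ P) : h.fN.range = f.range.subgroupOf (Nm P) := by
  ext x
  constructor
  · rintro ⟨y, rfl⟩
    exact ⟨y, rfl⟩
  · rintro ⟨y, hy⟩
    have hy' : f y = x := hy
    exact ⟨⟨y, h.nor y (hy' ▸ x.2)⟩, Subtype.ext hy'⟩

theorem Hom.sum_prod [Fintype H] [Fintype G] [Fintype (Nm P)] (h : Hom f P₀ P) (F : G → ℂ) :
    ∑ y : H, ∑ n : Nm P, F (f y * n) = Nat.card (Nm P₀) * ∑ x : G, F x := by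
  classical
  have := Fintype.ofFinite (Nm P₀)
  rw [← Finset.sum_product', Finset.univ_product_univ,
    ← Finset.sum_fiberwise Finset.univ (fun z : H × Nm P => f z.1 * z.2), Finset.mul_sum]
  refine Finset.sum_congr rfl fun x _ => ?_
  rw [Finset.sum_congr rfl (g := fun _ => F x) fun z hz => by rw [(Finset.mem_filter.1 hz).2], Finset.sum_const,
    nsmul_eq_mul]
  congr 2
  obtain ⟨y₀, n₀, hn₀, rfl⟩ := h.prod x
  rw [Nat.card_eq_fintype_card, ← Fintype.card_coe]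
  refine Fintype.card_congr
    { toFun := fun z => ⟨y₀⁻¹ * z.1.1, h.nor _ ?_⟩
      invFun := fun a => ⟨(y₀ * a, ⟨(f a)⁻¹ * n₀, mul_mem (inv_mem (h.mem a.2)) hn₀⟩), ?_⟩
      left_inv := fun z => ?_
      right_inv := fun a => ?_ }
  · have h1 := (Finset.mem_filter.1 z.2).2
    have h2 : f (y₀⁻¹ * z.1.1) = n₀ * (z.1.2 : G)⁻¹ := by
      rw [map_mul, map_inv, eq_mul_inv_iff_mul_eq, mul_assoc, h1, inv_mul_cancel_left]
    rw [h2]
    exact mul_mem hn₀ (inv_mem z.1.2.2)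
  · rw [Finset.mem_filter]
    refine ⟨Finset.mem_univ _, ?_⟩
    show f (y₀ * a) * ((f a)⁻¹ * n₀) = _
    rw [map_mul]
    group
  · have h1 := (Finset.mem_filter.1 z.2).2
    refine Subtype.ext (Prod.ext (mul_inv_cancel_left _ _) (Subtype.ext ?_))
    show (f (y₀⁻¹ * z.1.1))⁻¹ * n₀ = z.1.2
    rw [map_mul, map_inv, mul_inv_rev, inv_inv, mul_assoc, inv_mul_eq_iff_eq_mul, h1]
  · exact Subtype.ext (inv_mul_cancel_left _ _)

/-- **Mackey's formula for `G = f(H) N`.** -/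
theorem Hom.ind_comp (h : Hom f P₀ P) {φ : Nm P → ℂ} (hφ : IsClassFunction (Nm P) φ) :
    ind P φ ∘ f = ind P₀ (φ ∘ h.fN) := by
  have := Fintype.ofFinite G
  have := Fintype.ofFinite H
  have := Fintype.ofFinite (Nm P)
  funext a
  rw [Function.comp_apply, ind_eq, ind_eq, Brauer.indFun_apply, Brauer.indFun_apply]
  have h1 := h.sum_prod fun x => extendByZero (Nm P) φ (x⁻¹ * f a * x)
  have h2 : ∀ (y : H) (n : Nm P), extendByZero (Nm P) φ ((f y * n)⁻¹ * f a * (f y * n)) =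
      extendByZero (Nm P₀) (φ ∘ h.fN) (y⁻¹ * a * y) := by
    intro y n
    have h3 : (f y * n)⁻¹ * f a * (f y * n) = (n : G)⁻¹ * f (y⁻¹ * a * y) * n := by
      rw [map_mul, map_mul, map_inv]; group
    rw [h3]
    by_cases h4 : y⁻¹ * a * y ∈ Nm P₀
    · have h5 := h.mem h4
      rw [Brauer.extendByZero_mem _ _ h4, Brauer.extendByZero_mem _ _ (mul_mem (mul_mem (inv_mem n.2) h5) n.2)]
      have h6 := hφ ⟨_, h5⟩ n⁻¹
      rw [inv_inv] at h6
      exact h6
    · rw [Brauer.extendByZero_notMem _ _ h4, Brauer.extendByZero_notMem]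
      intro h5
      apply h4
      apply h.nor
      have h6 := mul_mem (mul_mem n.2 h5) (inv_mem n.2)
      rwa [show (n : G) * ((n : G)⁻¹ * f (y⁻¹ * a * y) * n) * (n : G)⁻¹ = f (y⁻¹ * a * y) by group] at h6
  simp only [h2, Finset.sum_const, Finset.card_univ, nsmul_eq_mul] at h1
  rw [← Finset.mul_sum, ← Nat.card_eq_fintype_card] at h1
  have h7 : (Nat.card (Nm P) : ℂ) ≠ 0 := card_ne_zero_complex
  have h8 : (Nat.card (Nm P₀) : ℂ) ≠ 0 := card_ne_zero_complex
  rw [eq_inv_mul_iff_mul_eq₀ h8, mul_left_comm, ← h1, inv_mul_cancel_left₀ h7]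

theorem Hom.du_comp (h : Hom f P₀ P) {α : G → ℂ} (hα : IsClassFunction G α) : du P α ∘ f = du P₀ (α ∘ f) := by
  unfold du
  rw [← h.hc_comp, ← h.ind_comp (hc_class P hα)]
  rfl

/-- Cuspidality is the same for a character and its constituents. -/
theorem Hom.cusp_iff [Fintype H] (h : Hom f P₀ P) {χ : G → ℂ} (hχ : IsIrrCharacter G χ) {θ : H → ℂ}
    (hθ : IsIrrCharacter H θ) (h0 : classInner (χ ∘ f) θ ≠ 0) : Cusp P χ ↔ Cusp P₀ θ := by
  have := Fintype.ofFinite G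
  have := Fintype.ofFinite (Nm P)
  have := Fintype.ofFinite (Nm P₀)
  have hχf : IsCharacter H (χ ∘ f) := isCharacter_comp f (isIrr_isCharacter hχ)
  have hθc := hc_char P₀ (isIrr_isCharacter hθ)
  constructor
  · intro hc0
    have h1 := isCharacter_sub_irr hχf hθ h0
    have h2 : hc P₀ θ + hc P₀ (χ ∘ f - θ) = 0 := by
      rw [← hc_add, add_sub_cancel, ← h.hc_comp, show hc P χ = 0 from hc0]
      rfl
    exact classInner_self_eq_zero (inner_zero_of_add hθc (hc_char P₀ h1) hθc (by rw [h2, classInner_zero_left]))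
  · intro hc0
    by_contra hne
    have h1 := du_char hχ hne
    have h2 : χ ∘ f + du P χ ∘ f = ind P₀ (hc P₀ (χ ∘ f)) := by
      rw [h.du_comp (isIrr_isClassFunction hχ)]
      unfold du
      rw [add_sub_cancel]
    apply h0
    refine inner_zero_of_add hχf (isCharacter_comp f h1) (isIrr_isCharacter hθ) ?_
    rw [h2, inner_ind_left P₀ _ (isIrr_isClassFunction hθ), ← fx_hc, inner_fx]
    change classInner _ (hc P₀ θ) = 0
    rw [show hc P₀ θ = 0 from hc0, classInner_zero_right]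

theorem Hom.sgn_eq [Fintype H] (h : Hom f P₀ P) {χ : G → ℂ} (hχ : IsIrrCharacter G χ) {θ : H → ℂ}
    (hθ : IsIrrCharacter H θ) (h0 : classInner (χ ∘ f) θ ≠ 0) : sgn P χ = sgn P₀ θ := by
  unfold sgn
  by_cases h1 : Cusp P χ
  · rw [if_pos h1, if_pos ((h.cusp_iff hχ hθ h0).1 h1)]
  · rw [if_neg h1, if_neg (fun h2 => h1 ((h.cusp_iff hχ hθ h0).2 h2))]

end comp

section expand

variable {H : Type v} [Group H] [Fintype H] {G : Type u} [Group G] [Fintype G] [Fintype (IrrCharacter G)]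

theorem inner_comp_eq (f : H →* G) {α : G → ℂ} (hα : IsClassFunction G α) (β : H → ℂ) :
    classInner (α ∘ f) β = ∑ χ : IrrCharacter G, classInner α (χ : G → ℂ) * classInner ((χ : G → ℂ) ∘ f) β := by
  have h1 : α ∘ f = ∑ χ : IrrCharacter G, classInner α (χ : G → ℂ) • ((χ : G → ℂ) ∘ f) := by
    conv_lhs => rw [classFunction_eq_sum hα]
    funext x
    simp only [Function.comp_apply, Finset.sum_apply, Pi.smul_apply]
  rw [h1, classInner_sum_left]
  exact Finset.sum_congr rfl fun χ _ => classInner_smul_left _ _ _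

theorem inner_eq_sum_left {α : G → ℂ} (hα : IsClassFunction G α) (β : G → ℂ) :
    classInner α β = ∑ χ : IrrCharacter G, classInner α (χ : G → ℂ) * classInner (χ : G → ℂ) β :=
  inner_comp_eq (MonoidHom.id G) hα β

end expand

section main

variable {G : Type u} [Group G] [Finite G] {p : ℕ} {P : Subgroup G} {h : ℕ}

theorem PermAt.row_sum [Fintype (IrrCharacter (Nm P))] (H1 : PermAt p P h) (χ : IrrCharacter G)
    (hχ : nu p (χ : G → ℂ) = h) :
    ∑ ψ ∈ Finset.univ.filter (fun ψ : IrrCharacter (Nm P) => nu p (ψ : Nm P → ℂ) = h), mm P χ ψ = 1 := by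
  obtain ⟨ψ, h1, h2, h3⟩ := H1.row χ hχ
  rw [Finset.sum_eq_single ψ (fun ψ' h4 h5 => h3 ψ' (Finset.mem_filter.1 h4).2 h5)
    (fun h4 => (h4 (Finset.mem_filter.2 ⟨Finset.mem_univ _, h1⟩)).elim), h2]

theorem PermAt.col_sum [Fintype (IrrCharacter G)] (H1 : PermAt p P h) (ψ : IrrCharacter (Nm P))
    (hψ : nu p (ψ : Nm P → ℂ) = h) :
    ∑ χ ∈ Finset.univ.filter (fun χ : IrrCharacter G => nu p (χ : G → ℂ) = h), mm P χ ψ = 1 := by
  obtain ⟨χ, h1, h2, h3⟩ := H1.col ψ hψ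
  rw [Finset.sum_eq_single χ (fun χ' h4 h5 => h3 χ' (Finset.mem_filter.1 h4).2 h5)
    (fun h4 => (h4 (Finset.mem_filter.2 ⟨Finset.mem_univ _, h1⟩)).elim), h2]

variable {H : Type v} [Group H] [Finite H] [hp : Fact p.Prime]

/-- The number of the constituents. -/
theorem exists_pos_sum [Fintype H] [Fintype (IrrCharacter H)] (f : H →* G) (hn : f.range.Normal)
    (hidx : ¬ p ∣ f.range.index) : ∃ a : IrrCharacter G → ℕ, ∀ χ : IrrCharacter G,
      (nu p (χ : G → ℂ) = h → 0 < a χ) ∧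
      ∑ θ ∈ Finset.univ.filter (fun θ : IrrCharacter H => nu p (θ : H → ℂ) = h),
        classInner ((χ : G → ℂ) ∘ f) (θ : H → ℂ) = a χ := by
  classical
  have h1 : ∀ (χ : IrrCharacter G) (θ : IrrCharacter H), ∃ n : ℕ, classInner ((χ : G → ℂ) ∘ f) (θ : H → ℂ) = n :=
    fun χ θ => classInner_isNat (isCharacter_comp f (isIrr_isCharacter χ.2)) (isIrr_isCharacter θ.2)
  choose c hc using h1
  refine ⟨fun χ => ∑ θ ∈ Finset.univ.filter (fun θ : IrrCharacter H => nu p (θ : H → ℂ) = h), c χ θ,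
    fun χ => ⟨fun hχ => ?_, ?_⟩⟩
  · obtain ⟨θ, hθ, h2⟩ := H672.exists_under (f := f) χ.2
    rw [H672.over_iff] at h2
    have h3 := nu_eq_of_inner f hn hidx χ.2 hθ h2
    have h4 : c χ ⟨θ, hθ⟩ ≠ 0 := by
      intro h5
      apply h2
      rw [hc χ ⟨θ, hθ⟩, h5, Nat.cast_zero]
    exact lt_of_lt_of_le (Nat.pos_of_ne_zero h4) (Finset.single_le_sum (f := fun θ => c χ θ)
      (fun _ _ => Nat.zero_le _) (Finset.mem_filter.2 ⟨Finset.mem_univ _, by rw [← h3, hχ]⟩))
  · rw [Nat.cast_sum]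
    exact Finset.sum_congr rfl fun θ _ => hc χ θ

/-- **The transfer.** -/
theorem PermAt.transfer {f : H →* G} {P₀ : Subgroup H} (hf : Hom f P₀ P) (hn : f.range.Normal)
    (hidx : ¬ p ∣ f.range.index) (H0 : PermAt p P₀ h) : PermAt p P h := by
  classical
  have := Fintype.ofFinite G
  have := Fintype.ofFinite H
  have := Fintype.ofFinite (Nm P)
  have := Fintype.ofFinite (Nm P₀)
  have := finite_irr (G := G)
  have := finite_irr (G := H)
  have := finite_irr (G := Nm P)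
  have := finite_irr (G := Nm P₀)
  have := Fintype.ofFinite (IrrCharacter G)
  have := Fintype.ofFinite (IrrCharacter H)
  have := Fintype.ofFinite (IrrCharacter (Nm P))
  have := Fintype.ofFinite (IrrCharacter (Nm P₀))
  have hn' : hf.fN.range.Normal := by rw [hf.range_fN]; infer_instance
  have hidx' : ¬ p ∣ hf.fN.range.index := by
    rw [hf.range_fN]
    exact fun h1 => hidx (h1.trans (Subgroup.relIndex_dvd_index_of_normal _ _))
  obtain ⟨a, ha⟩ := exists_pos_sum (h := h) f hn hidx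
  obtain ⟨b, hb⟩ := exists_pos_sum (h := h) hf.fN hn' hidx'
  have h1 : ∀ (χ : IrrCharacter G) (ψ : IrrCharacter (Nm P)), ∃ n : ℕ, mm P χ ψ = n :=
    fun χ ψ => mm_nat χ.2 (isIrr_isCharacter ψ.2)
  choose m hm using h1
  set A := Finset.univ.filter (fun χ : IrrCharacter G => nu p (χ : G → ℂ) = h) with hA
  set B := Finset.univ.filter (fun ψ : IrrCharacter (Nm P) => nu p (ψ : Nm P → ℂ) = h) with hB
  set A₀ := Finset.univ.filter (fun θ : IrrCharacter H => nu p (θ : H → ℂ) = h) with hA₀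
  set B₀ := Finset.univ.filter (fun η : IrrCharacter (Nm P₀) => nu p (η : Nm P₀ → ℂ) = h) with hB₀
  have zA : ∀ (χ : IrrCharacter G) (θ : IrrCharacter H), (χ ∈ A ↔ θ ∉ A₀) →
      classInner ((χ : G → ℂ) ∘ f) (θ : H → ℂ) = 0 := by
    intro χ θ h2
    by_contra h3
    have h4 := nu_eq_of_inner f hn hidx χ.2 θ.2 h3
    simp only [hA, hA₀, Finset.mem_filter, Finset.mem_univ, true_and, h4] at h2
    exact iff_not_self h2
  have zB : ∀ (ψ : IrrCharacter (Nm P)) (η : IrrCharacter (Nm P₀)), (ψ ∈ B ↔ η ∉ B₀) →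
      classInner ((ψ : Nm P → ℂ) ∘ hf.fN) (η : Nm P₀ → ℂ) = 0 := by
    intro ψ η h2
    by_contra h3
    have h4 := nu_eq_of_inner hf.fN hn' hidx' ψ.2 η.2 h3
    simp only [hB, hB₀, Finset.mem_filter, Finset.mem_univ, true_and, h4] at h2
    exact iff_not_self h2
  have sg : ∀ (χ : IrrCharacter G) (θ : IrrCharacter H), sgn P χ * classInner ((χ : G → ℂ) ∘ f) (θ : H → ℂ) =
      sgn P₀ θ * classInner ((χ : G → ℂ) ∘ f) (θ : H → ℂ) := by
    intro χ θ
    by_cases h2 : classInner ((χ : G → ℂ) ∘ f) (θ : H → ℂ) = 0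
    · rw [h2, mul_zero, mul_zero]
    · rw [hf.sgn_eq χ.2 θ.2 h2]
  -- the restriction
  have hR : ∀ χ ∈ A, ∀ η ∈ B₀, ∑ ψ ∈ B, mm P χ ψ * classInner ((ψ : Nm P → ℂ) ∘ hf.fN) (η : Nm P₀ → ℂ) =
      ∑ θ ∈ A₀, classInner ((χ : G → ℂ) ∘ f) (θ : H → ℂ) * mm P₀ θ η := by
    intro χ hχ η hη
    have hcl := isIrr_isClassFunction χ.2
    have hcf : IsClassFunction H ((χ : G → ℂ) ∘ f) :=
      isCharacter_isClassFunction (isCharacter_comp f (isIrr_isCharacter χ.2))
    rw [Finset.sum_subset (Finset.subset_univ B) fun ψ _ h2 => by rw [zB ψ η (by tauto), mul_zero],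
      Finset.sum_subset (Finset.subset_univ A₀) fun θ _ h2 => by rw [zA χ θ (by tauto), zero_mul]]
    simp only [mm_eq_sgn, mul_assoc]
    rw [← Finset.mul_sum, ← inner_comp_eq hf.fN (Brauer.isClassFunction_restrict (du_class P hcl) _),
      hf.rs_comp, hf.du_comp hcl, ← inner_ind_right P₀ _ (du_class P₀ hcf), inner_du P₀ hcf (ind_class P₀ _),
      inner_eq_sum_left hcf, Finset.mul_sum]
    refine Finset.sum_congr rfl fun θ _ => ?_
    rw [← mul_assoc, sg, ← inner_du P₀ (isIrr_isClassFunction θ.2) (ind_class P₀ _),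
      inner_ind_right P₀ _ (du_class P₀ (isIrr_isClassFunction θ.2))]
    ring
  -- the induction
  have hI : ∀ ψ ∈ B, ∀ θ ∈ A₀, ∑ χ ∈ A, mm P χ ψ * classInner ((χ : G → ℂ) ∘ f) (θ : H → ℂ) =
      ∑ η ∈ B₀, classInner ((ψ : Nm P → ℂ) ∘ hf.fN) (η : Nm P₀ → ℂ) * mm P₀ θ η := by
    intro ψ hψ θ hθ
    have hcl := isIrr_isClassFunction ψ.2
    have hcf : IsClassFunction (Nm P₀) ((ψ : Nm P → ℂ) ∘ hf.fN) :=
      isCharacter_isClassFunction (isCharacter_comp hf.fN (isIrr_isCharacter ψ.2))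
    have hθc := isIrr_isClassFunction θ.2
    rw [Finset.sum_subset (Finset.subset_univ A) fun χ _ h2 => by rw [zA χ θ (by tauto), mul_zero],
      Finset.sum_subset (Finset.subset_univ B₀) fun η _ h2 => by rw [zB ψ η (by tauto), zero_mul]]
    have e1 : ∀ χ : IrrCharacter G, mm P χ ψ = sgn P χ * classInner (du P (ind P ψ)) (χ : G → ℂ) := by
      intro χ
      obtain ⟨n, hn⟩ := mm_nat (P := P) χ.2 (isIrr_isCharacter ψ.2)
      have h2 : conj (mm P χ ψ) = mm P χ ψ := by rw [hn, Complex.conj_natCast]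
      rw [← h2, mm_eq_sgn, map_mul, conj_sgn, classInner_conj_symm,
        ← inner_ind_left P _ (du_class P (isIrr_isClassFunction χ.2)),
        ← inner_du P (ind_class P _) (isIrr_isClassFunction χ.2)]
    have e2 : ∀ η : IrrCharacter (Nm P₀), mm P₀ θ η = sgn P₀ θ * classInner (η : Nm P₀ → ℂ) (rs P₀ (du P₀ θ)) := by
      intro η
      obtain ⟨n, hn⟩ := mm_nat (P := P₀) θ.2 (isIrr_isCharacter η.2)
      have h2 : conj (mm P₀ θ η) = mm P₀ θ η := by rw [hn, Complex.conj_natCast]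
      rw [← h2, mm_eq_sgn, map_mul, conj_sgn, classInner_conj_symm]
    have e3 : ∀ χ : IrrCharacter G, mm P χ ψ * classInner ((χ : G → ℂ) ∘ f) (θ : H → ℂ) =
        sgn P₀ θ * (classInner (du P (ind P ψ)) (χ : G → ℂ) * classInner ((χ : G → ℂ) ∘ f) (θ : H → ℂ)) := by
      intro χ
      rw [e1, mul_right_comm, sg]
      ring
    simp only [e2, e3]
    rw [← Finset.mul_sum, ← inner_comp_eq f (du_class P (ind_class P _)), hf.du_comp (ind_class P _),
      hf.ind_comp hcl, inner_du P₀ (ind_class P₀ _) hθc, inner_ind_left P₀ _ (du_class P₀ hθc),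
      inner_eq_sum_left hcf, Finset.mul_sum]
    exact Finset.sum_congr rfl fun η _ => by ring
  have k1 : ∀ χ ∈ A, ∑ ψ ∈ B, m χ ψ * b ψ = a χ := by
    intro χ hχ
    have h2 : ∑ ψ ∈ B, (m χ ψ : ℂ) * b ψ = a χ := by
      rw [← (ha χ).2, Finset.sum_congr rfl fun ψ _ => by rw [← hm, ← (hb ψ).2, Finset.mul_sum], Finset.sum_comm,
        Finset.sum_congr rfl fun η hη => hR χ hχ η hη, Finset.sum_comm]
      refine Finset.sum_congr rfl fun θ hθ => ?_
      rw [← Finset.mul_sum, H0.row_sum θ (Finset.mem_filter.1 hθ).2, mul_one]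
    exact_mod_cast h2
  have k2 : ∀ ψ ∈ B, ∑ χ ∈ A, m χ ψ * a χ = b ψ := by
    intro ψ hψ
    have h2 : ∑ χ ∈ A, (m χ ψ : ℂ) * a χ = b ψ := by
      rw [← (hb ψ).2, Finset.sum_congr rfl fun χ _ => by rw [← hm, ← (ha χ).2, Finset.mul_sum], Finset.sum_comm,
        Finset.sum_congr rfl fun θ hθ => hI ψ hψ θ hθ, Finset.sum_comm]
      refine Finset.sum_congr rfl fun η hη => ?_
      rw [← Finset.mul_sum, H0.col_sum η (Finset.mem_filter.1 hη).2, mul_one]
    exact_mod_cast h2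
  constructor
  · intro χ hχ
    obtain ⟨ψ, h2, h3, h4⟩ := row_of_nat A B m a b k1 k2 (Finset.mem_filter.2 ⟨Finset.mem_univ χ, hχ⟩) ((ha χ).1 hχ)
    refine ⟨ψ, (Finset.mem_filter.1 h2).2, by rw [hm, h3, Nat.cast_one], fun ψ' h5 h6 => ?_⟩
    rw [hm, h4 ψ' (Finset.mem_filter.2 ⟨Finset.mem_univ _, h5⟩) h6, Nat.cast_zero]
  · intro ψ hψ
    obtain ⟨χ, h2, h3, h4⟩ := row_of_nat B A (fun ψ χ => m χ ψ) b a k2 k1
      (Finset.mem_filter.2 ⟨Finset.mem_univ ψ, hψ⟩) ((hb ψ).1 hψ)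
    refine ⟨χ, (Finset.mem_filter.1 h2).2, by rw [hm, h3, Nat.cast_one], fun χ' h5 h6 => ?_⟩
    rw [hm, h4 χ' (Finset.mem_filter.2 ⟨Finset.mem_univ _, h5⟩) h6, Nat.cast_zero]

/-- The data of the transfer for Sylow subgroups. -/
theorem hom_of_sylow (f : H →* G) (hn : f.range.Normal) (P₀ : Sylow p H) (P : Sylow p G)
    (hP : (P₀ : Subgroup H).map f = P) (hinj : ∀ y ∈ (P₀ : Subgroup H), f y = 1 → y = 1)
    (hker : f.ker ≤ Nm (P₀ : Subgroup H)) : Hom f (P₀ : Subgroup H) (P : Subgroup G) := by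
  have hPr : (P : Subgroup G) ≤ f.range := by
    rw [← hP]; exact Subgroup.map_le_range _ _
  refine ⟨hP, hinj, fun y hy => ?_, fun g => ?_⟩
  · have key : ∀ y : H, f y ∈ Nm (P : Subgroup G) → ∀ x ∈ (P₀ : Subgroup H), y * x * y⁻¹ ∈ (P₀ : Subgroup H) := by
      intro y hy x hx
      have h1 : f x ∈ (P : Subgroup G) := by rw [← hP]; exact ⟨x, hx, rfl⟩
      have h2 := (Subgroup.mem_normalizer_iff.1 hy _).1 h1
      rw [← hP] at h2
      obtain ⟨z, hz, hzx⟩ := h2
      have h3 : z⁻¹ * (y * x * y⁻¹) ∈ f.ker := by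
        rw [MonoidHom.mem_ker, map_mul, map_mul, map_mul, map_inv, map_inv, hzx, inv_mul_cancel]
      have h4 : y * x * y⁻¹ ∈ Nm (P₀ : Subgroup H) := by
        have h5 := mul_mem (Subgroup.le_normalizer hz) (hker h3)
        rwa [mul_inv_cancel_left] at h5
      have h6 : IsPGroup p (Subgroup.zpowers (y * x * y⁻¹)) := by
        obtain ⟨k, hk⟩ := P₀.2 ⟨x, hx⟩
        have h7 : x ^ p ^ k = 1 := congrArg Subtype.val hk
        rw [IsPGroup.iff_card]
        rw [Nat.card_zpowers]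
        have h8 : orderOf (y * x * y⁻¹) ∣ p ^ k := orderOf_dvd_of_pow_eq_one (by rw [conj_pow, h7]; group)
        obtain ⟨j, -, hj⟩ := (Nat.dvd_prime_pow hp.out).1 h8
        exact ⟨j, hj⟩
      have h9 := IsPGroup.inf_normalizer_sylow h6 P₀
      have h10 : y * x * y⁻¹ ∈ Subgroup.zpowers (y * x * y⁻¹) ⊓ Nm (P₀ : Subgroup H) :=
        ⟨Subgroup.mem_zpowers _, h4⟩
      exact ((h9 ▸ h10 : y * x * y⁻¹ ∈ Subgroup.zpowers (y * x * y⁻¹) ⊓ (P₀ : Subgroup H))).2
    rw [Subgroup.mem_normalizer_iff]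
    refine fun x => ⟨key y hy x, fun hx => ?_⟩
    have h1 := key y⁻¹ (by rw [map_inv]; exact inv_mem hy) _ hx
    rwa [show y⁻¹ * (y * x * y⁻¹) * y⁻¹⁻¹ = x by group] at h1
  · have h1 := Sylow.normalizer_sup_eq_top' P hPr
    have h2 : g⁻¹ ∈ ((Nm (P : Subgroup G) ⊔ f.range : Subgroup G) : Set G) := by
      have h3 : Nm (P : Subgroup G) ⊔ f.range = ⊤ := h1
      rw [h3]; trivial
    rw [Subgroup.mul_normal] at h2
    obtain ⟨n, hn, _, ⟨y, rfl⟩, h4⟩ := h2
    refine ⟨y⁻¹, n⁻¹, inv_mem hn, ?_⟩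
    rw [map_inv, ← mul_inv_rev, show n * f y = g⁻¹ from h4, inv_inv]

theorem PermAt.transfer_sylow (f : H →* G) (hn : f.range.Normal) (P₀ : Sylow p H) (P : Sylow p G)
    (hP : (P₀ : Subgroup H).map f = P) (hinj : ∀ y ∈ (P₀ : Subgroup H), f y = 1 → y = 1)
    (hker : f.ker ≤ Nm (P₀ : Subgroup H)) (H0 : PermAt p (P₀ : Subgroup H) h) : PermAt p (P : Subgroup G) h := by
  refine H0.transfer (hom_of_sylow f hn P₀ P hP hinj hker) hn fun h1 => P.not_dvd_index (h1.trans ?_)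
  exact Subgroup.index_dvd_of_le (by rw [← hP]; exact Subgroup.map_le_range _ _)

theorem card_eq_of_map (f : H →* G) (P₀ : Subgroup H) (P : Subgroup G) (hP : P₀.map f = P)
    (hinj : ∀ y ∈ P₀, f y = 1 → y = 1) : Nat.card P₀ = Nat.card P := by
  subst hP
  exact Nat.card_congr (Equiv.ofBijective (f.subgroupMap P₀) ⟨(injective_iff_map_eq_one _).2 fun y hy =>
    Subtype.ext (hinj y y.2 (congrArg Subtype.val hy)), f.subgroupMap_surjective P₀⟩)

/-- **The transfer for Sylow subgroups.** -/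
theorem Perm.transfer_sylow (f : H →* G) (hn : f.range.Normal) (P₀ : Sylow p H) (P : Sylow p G)
    (hP : (P₀ : Subgroup H).map f = P) (hinj : ∀ y ∈ (P₀ : Subgroup H), f y = 1 → y = 1)
    (hker : f.ker ≤ Nm (P₀ : Subgroup H)) (H0 : Perm p (P₀ : Subgroup H)) : Perm p (P : Subgroup G) := by
  intro h h1 h2
  refine PermAt.transfer_sylow f hn P₀ P hP hinj hker (H0 h h1 ?_)
  have h3 := card_eq_of_map f _ _ hP hinj
  rw [P₀.card_eq_multiplicity, P.card_eq_multiplicity] at h3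
  rwa [Nat.pow_right_injective hp.out.two_le h3]

end main

end Cfsg.Agent.TID.Syl
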