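import Mathlib
import Cfsg.Agent.TID.Defs
import Cfsg.Agent.TID.BlkCases
import Cfsg.Agent.TID.Syl.Transfer
import Cfsg.Agent.H622.Over
import Cfsg.Agent.H681.TI.Frame
import Cfsg.Agent.H476.TI.Red
import Cfsg.Agent.S4819

/-!
# S4622, Sylow rows: from `Perm` to the conclusion (helper1)

* `blocks_lies` : `B` and `b` in terms of a linear character of the central subgroup `K`;
* `card_lies` : `k(B) = k(b)` in these terms;
* `concl_of_perm` : `Perm p P` gives `Concl`;
* `cent_of_card` : the `p'`-elements of `C(P)` if there are `1 + |P|` Sylow subgroups;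
* `srow_of_perm` : a row follows from `Perm` for the perfect central extensions of `S`.
-/

set_option autoImplicit false
set_option linter.unusedSectionVars false

namespace Cfsg.Agent.TID.Syl

open Cfsg Cfsg.Agent.Characters.Core Cfsg.Agent.Characters
open Cfsg.Agent.TID.Blk (Nm Concl kh)
open Cfsg.Agent.H622.Over (Lies)
open Cfsg.Agent.H608.TI (IsTI RO)
open Cfsg.Agent.H681.TI (DZ)
open scoped ComplexConjugate Pointwise

universe u v

section lies

variable {G : Type u} [Group G] [Finite G] {P K : Subgroup G}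

theorem central_le (P : Subgroup G) (hK : K ≤ Subgroup.center G) : K ≤ Nm P :=
  hK.trans (Subgroup.center_le_normalizer _)

/-- The linear character of `K` as a subgroup of the normalizer. -/
def cN (P : Subgroup G) (c : K →* ℂˣ) : K.subgroupOf (Nm P) →* ℂˣ :=
  c.comp (((Nm P).subtype.comp (K.subgroupOf (Nm P)).subtype).codRestrict K fun x => x.2)

theorem cN_apply (c : K →* ℂˣ) (x : K.subgroupOf (Nm P)) : cN P c x = c ⟨x, x.2⟩ := rfl

theorem cN_inj (hK : K ≤ Subgroup.center G) {c d : K →* ℂˣ} (h : cN P c = cN P d) : c = d := by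
  ext k
  exact congrArg Units.val (DFunLike.congr_fun h ⟨⟨k, central_le P hK k.2⟩, k.2⟩)

theorem central_sub (P : Subgroup G) (hK : K ≤ Subgroup.center G) : K.subgroupOf (Nm P) ≤ Subgroup.center (Nm P) := by
  intro x hx
  rw [Subgroup.mem_center_iff]
  exact fun g => Subtype.ext (Subgroup.mem_center_iff.1 (hK hx) g)

theorem exists_cN (hK : K ≤ Subgroup.center G) {ψ : Nm P → ℂ} (hψ : IsIrrCharacter (Nm P) ψ) :
    ∃ c : K →* ℂˣ, Lies (K.subgroupOf (Nm P)) (cN P c) ψ := by
  obtain ⟨d, hd⟩ := H622.Over.exists_hom (central_sub P hK) hψ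
  refine ⟨d.comp (Subgroup.subgroupOfEquivOfLe (central_le P hK)).symm.toMonoidHom, ?_⟩
  intro x n
  exact hd x n

theorem lies_rs {c : K →* ℂˣ} {α : G → ℂ} (h : Lies K c α) : Lies (K.subgroupOf (Nm P)) (cN P c) (rs P α) :=
  fun x n => h x ⟨n, n.2⟩

theorem lies_fx {X : Type v} [Group X] [Finite X] {L : Subgroup X} (hL : L ≤ Subgroup.center X) (Q : Subgroup X)
    {c : L →* ℂˣ} {α : X → ℂ} (h : Lies L c α) : Lies L c (fx Q α) := by
  have := Fintype.ofFinite Q
  intro x n
  rw [fx_apply, fx_apply, mul_assoc, Finset.sum_mul]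
  congr 1
  refine Finset.sum_congr rfl fun y _ => ?_
  rw [← h, mul_assoc, mul_assoc, Subgroup.mem_center_iff.1 (hL n.2) y]

theorem lies_ind (hK : K ≤ Subgroup.center G) {c : K →* ℂˣ} {φ : Nm P → ℂ}
    (h : Lies (K.subgroupOf (Nm P)) (cN P c) φ) : Lies K c (ind P φ) := by
  have := Fintype.ofFinite G
  intro x n
  rw [ind_eq, Brauer.indFun_apply, Brauer.indFun_apply, mul_assoc, Finset.sum_mul]
  congr 1
  refine Finset.sum_congr rfl fun y _ => ?_
  have h1 : y⁻¹ * (x * n) * y = y⁻¹ * x * y * n := by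
    rw [mul_assoc, mul_assoc, ← Subgroup.mem_center_iff.1 (hK n.2) y]; group
  have hn := central_le P hK n.2
  rw [h1]
  by_cases h2 : y⁻¹ * x * y ∈ Nm P
  · rw [Brauer.extendByZero_mem _ _ h2, Brauer.extendByZero_mem _ _ (mul_mem h2 hn)]
    exact h ⟨_, h2⟩ ⟨⟨n, hn⟩, n.2⟩
  · rw [Brauer.extendByZero_notMem _ _ h2, Brauer.extendByZero_notMem, zero_mul]
    intro h3
    exact h2 ((Subgroup.mul_mem_cancel_right _ hn).1 h3)

theorem lies_hc (hK : K ≤ Subgroup.center G) {c : K →* ℂˣ} {α : G → ℂ} (h : Lies K c α) :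
    Lies (K.subgroupOf (Nm P)) (cN P c) (hc P α) := lies_fx (central_sub P hK) _ (lies_rs h)

theorem lies_du (hK : K ≤ Subgroup.center G) {c : K →* ℂˣ} {α : G → ℂ} (h : Lies K c α) : Lies K c (du P α) := by
  intro x n
  unfold du
  rw [Pi.sub_apply, Pi.sub_apply, lies_ind hK (lies_hc hK h) x n, h x n, sub_mul]

theorem lies_sd (hK : K ≤ Subgroup.center G) {c : K →* ℂˣ} {α : G → ℂ} (h : Lies K c α) : Lies K c (sd P α) := by
  intro x n
  rw [sd_eq, Pi.smul_apply, Pi.smul_apply, lies_du hK h x n, smul_eq_mul, smul_eq_mul, mul_assoc]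

theorem lies_uniq {X : Type v} [Group X] {L : Subgroup X} {c d : L →* ℂˣ} {χ : X → ℂ} (hχ : IsIrrCharacter X χ)
    (h1 : Lies L c χ) (h2 : Lies L d χ) : c = d := by
  ext n
  exact mul_left_cancel₀ (isIrr_apply_one_ne_zero hχ) ((h1 1 n).symm.trans (h2 1 n))

/-- The entries of `mm` respect the central characters. -/
theorem lies_iff_of_mm (hK : K ≤ Subgroup.center G) {χ : G → ℂ} (hχ : IsIrrCharacter G χ) {ψ : Nm P → ℂ}
    (hψ : IsIrrCharacter (Nm P) ψ) (h : mm P χ ψ ≠ 0) (c : K →* ℂˣ) :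
    Lies K c χ ↔ Lies (K.subgroupOf (Nm P)) (cN P c) ψ := by
  have := Fintype.ofFinite (Nm P)
  obtain ⟨d, hd⟩ := H622.Over.exists_hom hK hχ
  obtain ⟨e, he⟩ := exists_cN hK hψ
  have h1 : d = e := by
    by_contra hne
    rw [mm_eq] at h
    exact h (H622.Over.classInner_eq_zero (lies_rs (lies_sd hK hd)) he fun h2 => hne (cN_inj hK h2))
  subst h1
  constructor
  · intro h2
    rwa [lies_uniq hχ h2 hd]
  · intro h2
    rwa [cN_inj hK (lies_uniq hψ h2 he)]

end lies

section blocks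

variable {G : Type u} [Group G] [Finite G] {p : ℕ} [hp : Fact p.Prime] {M : Ideal AlgInt}

/-- `B` and `b` in terms of a linear character of `K`. -/
theorem blocks_lies (hM : IsPModular p M) (P : Sylow p G) (hP1 : (P : Subgroup G) ≠ ⊥) (hTI : IsTI (P : Subgroup G))
    {K : Subgroup G} (hKc : K ≤ Subgroup.center G) (hK : ¬ p ∣ Nat.card K)
    (hC : ∀ x ∈ Subgroup.centralizer ((P : Subgroup G) : Set G), ¬ p ∣ orderOf x → x ∈ K)
    {B : Set (IrrCharacter G)} (hBP : IsDefectGroup p M B P)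
    {b : Set (IrrCharacter (Nm (P : Subgroup G)))} (hb : IsInducedBlock M (Nm (P : Subgroup G)) b B) :
    ∃ c : K →* ℂˣ, (∀ χ : IrrCharacter G, χ ∈ B ↔ Lies K c (χ : G → ℂ) ∧ ¬ DZ p (χ : G → ℂ)) ∧
      (∀ ψ : IrrCharacter (Nm (P : Subgroup G)), ψ ∈ b ↔
        Lies (K.subgroupOf (Nm (P : Subgroup G))) (cN P c) (ψ : Nm (P : Subgroup G) → ℂ)) := by
  have hKn : K.Normal := ⟨fun k hk g => by
    rw [Subgroup.mem_center_iff.1 (hKc hk) g, mul_inv_cancel_right]; exact hk⟩
  have hKN := central_le (P : Subgroup G) hKc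
  have := Fintype.ofFinite G
  have := Fintype.ofFinite K
  have := Fintype.ofFinite (Nm (P : Subgroup G))
  have := Fintype.ofFinite (K.subgroupOf (Nm (P : Subgroup G)))
  obtain ⟨θ, hθ, h1, h2⟩ := H681.TI.blocks_aux hM P (Nm (P : Subgroup G)) rfl hP1 hTI K hK hKN hC B hBP b hb
  obtain ⟨c, rfl⟩ := H622.Over.exists_hom_of_central hKc hθ
  refine ⟨c, fun χ => ?_, fun ψ => ?_⟩
  · rw [h1, H672.over_subtype_iff, H622.Over.lies_iff_classInner hKc c χ.2]
  · rw [h2, H622.Over.lies_iff_classInner (central_sub _ hKc) _ ψ.2,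
      ← H672.over_comp_equiv _ (Subgroup.subgroupOfEquivOfLe hKN), H672.over_iff]
    rfl

theorem height_eq (hM : IsPModular p M) (P : Sylow p G) {B : Set (IrrCharacter G)} (hB : IsPBlock M B)
    (hBP : IsDefectGroup p M B P) {χ : IrrCharacter G} (hχ : χ ∈ B) :
    blockHeight p B (χ : G → ℂ) = nu p (χ : G → ℂ) := by
  have h1 := Blk.fact_degree (p := p) hχ
  have h2 := Blk.defect_of_card hM hB hBP P.card_eq_multiplicity
  unfold nu
  omega

theorem fact_norm (P : Sylow p G) :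
    (Nat.card (Nm (P : Subgroup G))).factorization p = (Nat.card G).factorization p := by
  have h1 := (P.subtype (Subgroup.le_normalizer : (P : Subgroup G) ≤ Nm (P : Subgroup G))).card_eq_multiplicity
  have h2 : Nat.card ((P.subtype (Subgroup.le_normalizer : (P : Subgroup G) ≤ Nm (P : Subgroup G)) :
      Sylow p (Nm (P : Subgroup G))) : Subgroup (Nm (P : Subgroup G))) = Nat.card (P : Subgroup G) :=
    Blk.card_sub (P : Subgroup G)
  rw [h2, P.card_eq_multiplicity] at h1
  exact (Nat.pow_right_injective hp.out.two_le h1).symm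

theorem height_eq' (hM : IsPModular p M) (P : Sylow p G) {B : Set (IrrCharacter G)}
    (hBP : IsDefectGroup p M B P) {b : Set (IrrCharacter (Nm (P : Subgroup G)))}
    (hb : IsInducedBlock M (Nm (P : Subgroup G)) b B) {ψ : IrrCharacter (Nm (P : Subgroup G))} (hψ : ψ ∈ b) :
    blockHeight p b (ψ : Nm (P : Subgroup G) → ℂ) = nu p (ψ : Nm (P : Subgroup G) → ℂ) := by
  have h1 := Blk.fact_degree (p := p) hψ
  have h2 := Blk.defect_of_card hM hb.2.1 hBP P.card_eq_multiplicity
  have h3 := Blk.blockDefect_br hM hBP hb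
  have h4 := fact_norm P
  unfold nu
  omega

theorem fact_pos (P : Sylow p G) (hP1 : (P : Subgroup G) ≠ ⊥) : 0 < (Nat.card G).factorization p := by
  rcases Nat.eq_zero_or_pos ((Nat.card G).factorization p) with h | h
  · exfalso
    apply hP1
    rw [← Subgroup.card_eq_one, P.card_eq_multiplicity, h, pow_zero]
  · exact h

theorem nu_lt {χ : G → ℂ} (hχ : IsIrrCharacter G χ) (h : ¬ DZ p χ) : nu p χ < (Nat.card G).factorization p :=
  lt_of_le_of_ne (H681.TI.factorization_le hχ) h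

theorem nu_lt' (hM : IsPModular p M) (P : Sylow p G) (hP1 : (P : Subgroup G) ≠ ⊥) {B : Set (IrrCharacter G)}
    (hBP : IsDefectGroup p M B P) {b : Set (IrrCharacter (Nm (P : Subgroup G)))}
    (hb : IsInducedBlock M (Nm (P : Subgroup G)) b B) {ψ : IrrCharacter (Nm (P : Subgroup G))} (hψ : ψ ∈ b) :
    nu p (ψ : Nm (P : Subgroup G) → ℂ) < (Nat.card G).factorization p := by
  have := hM.2.1.isPrime
  rw [← fact_norm P]
  refine nu_lt ψ.2 fun h => ?_
  have h1 := H681.TI.blockDefect_of_dz hM h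
  rw [← Blocks.Basic.isPBlock_eq_blockOf hb.1 hψ, Blk.blockDefect_br hM hBP hb,
    Blk.defect_of_card hM hb.2.1 hBP P.card_eq_multiplicity] at h1
  have := fact_pos P hP1
  omega

theorem card_eq (hM : IsPModular p M) (P : Sylow p G) (hTI : IsTI (P : Subgroup G)) {B : Set (IrrCharacter G)}
    (hBP : IsDefectGroup p M B P) {b : Set (IrrCharacter (Nm (P : Subgroup G)))}
    (hb : IsInducedBlock M (Nm (P : Subgroup G)) b B) : Nat.card B = Nat.card b :=
  (Blk.card_eq_iff hM hBP hTI hb).2 (S4819.result p M hM P hTI B hb.2.1 hBP b hb)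

/-- The bijection given by a permutation matrix. -/
theorem PermAt.card_eq {P : Subgroup G} {h : ℕ} (H1 : PermAt p P h) (A : IrrCharacter G → Prop)
    (A' : IrrCharacter (Nm P) → Prop)
    (hA : ∀ (χ : IrrCharacter G) (ψ : IrrCharacter (Nm P)), nu p (χ : G → ℂ) = h → nu p (ψ : Nm P → ℂ) = h →
      mm P χ ψ = 1 → (A χ ↔ A' ψ)) :
    Nat.card {χ : IrrCharacter G // A χ ∧ nu p (χ : G → ℂ) = h} =
      Nat.card {ψ : IrrCharacter (Nm P) // A' ψ ∧ nu p (ψ : Nm P → ℂ) = h} := by
  choose σ hσ using H1.row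
  refine Nat.card_congr (Equiv.ofBijective (fun χ => ⟨σ χ.1 χ.2.2, (hA _ _ χ.2.2 (hσ _ _).1 (hσ _ _).2.1).1 χ.2.1,
    (hσ _ _).1⟩) ⟨fun χ χ' h1 => ?_, fun ψ => ?_⟩)
  · have h2 : σ χ.1 χ.2.2 = σ χ'.1 χ'.2.2 := congrArg Subtype.val h1
    obtain ⟨ξ, -, -, h3⟩ := H1.col _ (hσ χ.1 χ.2.2).1
    have h4 : χ.1 = ξ := by
      by_contra h5
      exact one_ne_zero ((hσ χ.1 χ.2.2).2.1.symm.trans (h3 _ χ.2.2 h5))
    have h5 : χ'.1 = ξ := by
      by_contra h5
      have h6 := h3 _ χ'.2.2 h5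
      rw [h2] at h6
      exact one_ne_zero ((hσ χ'.1 χ'.2.2).2.1.symm.trans h6)
    exact Subtype.ext (h4.trans h5.symm)
  · obtain ⟨χ, h1, h2, -⟩ := H1.col ψ.1 ψ.2.2
    refine ⟨⟨χ, (hA _ _ h1 ψ.2.2 h2).2 ψ.2.1, h1⟩, Subtype.ext ?_⟩
    by_contra h3
    exact one_ne_zero (h2.symm.trans ((hσ χ h1).2.2 ψ.1 ψ.2.2 (Ne.symm h3)))

/-- **From `Perm` to the conclusion.** -/
theorem concl_of_perm (hM : IsPModular p M) (P : Sylow p G) (hP1 : (P : Subgroup G) ≠ ⊥)
    (hTI : IsTI (P : Subgroup G)) {K : Subgroup G} (hKc : K ≤ Subgroup.center G) (hK : ¬ p ∣ Nat.card K)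
    (hC : ∀ x ∈ Subgroup.centralizer ((P : Subgroup G) : Set G), ¬ p ∣ orderOf x → x ∈ K)
    {B : Set (IrrCharacter G)} (hB : IsPBlock M B) (hBP : IsDefectGroup p M B P) (hperm : Perm p (P : Subgroup G)) :
    Concl p M B (P : Subgroup G) := by
  refine Blk.concl_of_kh hM hB hBP fun b hb => ?_
  obtain ⟨c, h1, h2⟩ := blocks_lies hM P hP1 hTI hKc hK hC hBP hb
  have hpos : ∀ h, 0 < h → kh p B h = kh p b h := by
    intro h h0
    by_cases ha : h < (Nat.card G).factorization p
    · have h3 := (hperm h h0 ha).card_eq (fun χ => χ ∈ B) (fun ψ => ψ ∈ b) (fun χ ψ hχ _ h4 => by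
        rw [h1, h2, ← lies_iff_of_mm hKc χ.2 ψ.2 (by rw [h4]; exact one_ne_zero)]
        refine and_iff_left fun h5 => ?_
        unfold nu at hχ
        unfold DZ at h5
        omega)
      unfold kh
      rw [Nat.card_congr (Equiv.subtypeEquivRight fun χ => and_congr_right fun hχ => by
          rw [height_eq hM P hB hBP hχ]), h3]
      exact Nat.card_congr (Equiv.subtypeEquivRight fun ψ => and_congr_right fun hψ => by
        rw [height_eq' hM P hBP hb hψ])
    · rw [Blk.kh_eq_zero B, Blk.kh_eq_zero b]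
      · intro ψ hψ h3
        rw [height_eq' hM P hBP hb hψ] at h3
        have := nu_lt' hM P hP1 hBP hb hψ
        omega
      · intro χ hχ h3
        rw [height_eq hM P hB hBP hχ] at h3
        have := nu_lt χ.2 ((h1 χ).1 hχ).2
        omega
  intro h
  rcases Nat.eq_zero_or_pos h with rfl | h0
  swap
  · exact hpos h h0
  have h3 := card_eq hM P hTI hBP hb
  rw [Blk.card_eq_sum_kh (p := p) B (Finset.range ((Nat.card G).factorization p + 1)) (fun χ hχ => by
      rw [height_eq hM P hB hBP hχ]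
      exact Finset.mem_range.2 ((nu_lt χ.2 ((h1 χ).1 hχ).2).trans (Nat.lt_succ_self _))),
    Blk.card_eq_sum_kh (p := p) b (Finset.range ((Nat.card G).factorization p + 1)) (fun ψ hψ => by
      rw [height_eq' hM P hBP hb hψ]
      exact Finset.mem_range.2 ((nu_lt' hM P hP1 hBP hb hψ).trans (Nat.lt_succ_self _))),
    Finset.sum_range_succ', Finset.sum_range_succ',
    Finset.sum_congr rfl fun h _ => hpos (h + 1) (Nat.succ_pos h)] at h3
  omega

end blocks

section group

variable {G : Type u} [Group G] [Finite G] {p : ℕ} [hp : Fact p.Prime]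

/-- A `p'`-element of `C(P)` normalizes all the Sylow subgroups. -/
theorem smul_eq_of_cent (P : Sylow p G) (hTI : IsTI (P : Subgroup G))
    (hc : Nat.card (Sylow p G) = 1 + Nat.card (P : Subgroup G)) {x : G}
    (hx : x ∈ Subgroup.centralizer ((P : Subgroup G) : Set G)) (hxo : ¬ p ∣ orderOf x) (Q : Sylow p G) : x • Q = Q := by
  obtain ⟨T, w, h⟩ := H608.TI.exists_RO P hTI hc
  have hN : ∀ g : G, g ∈ Nm (P : Subgroup G) ↔ g • P = P := fun g => Sylow.smul_eq_iff_mem_normalizer.symm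
  have hxP : x • P = P := (hN x).1 (Subgroup.centralizer_le_normalizer _ hx)
  have hall : ∀ R : Sylow p G, R ≠ P → ∃ u ∈ (P : Subgroup G), R = u • w • P := by
    intro R hR
    obtain ⟨g, rfl⟩ := MulAction.exists_smul_eq G P R
    obtain ⟨u, hu, t, ht, u', hu', rfl⟩ := h.cell g (fun h1 => hR ((hN g).1 h1))
    refine ⟨u, hu, ?_⟩
    rw [mul_smul, mul_smul, mul_smul, (hN u').1 (h.hPN hu'), (hN t).1 (h.hTN ht)]
  have hw : w • P ≠ P := fun h1 => h.wN ((hN w).2 h1)
  obtain ⟨y, hy, hxy⟩ := hall (x • w • P) (fun h1 => hw (smul_left_cancel x (h1.trans hxP.symm)))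
  have hcomm : ∀ u ∈ (P : Subgroup G), u * x = x * u := Subgroup.mem_centralizer_iff.1 hx
  have hpow : ∀ k : ℕ, x ^ k • w • P = y ^ k • w • P := by
    intro k
    induction k with
    | zero => rw [pow_zero, pow_zero]
    | succ k ih =>
      rw [pow_succ', mul_smul, ih, ← mul_smul, ← hcomm _ (pow_mem hy k), mul_smul, hxy, ← mul_smul, pow_succ]
  have h1 := hpow (orderOf x)
  rw [pow_orderOf_eq_one, one_smul] at h1
  have h2 := H608.TI.free P hTI hw (pow_mem hy _) h1.symm
  have h3 : y = 1 := by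
    obtain ⟨k, hk⟩ := P.2 ⟨y, hy⟩
    have h4 : y ^ p ^ k = 1 := congrArg Subtype.val hk
    exact orderOf_eq_one_iff.1 (Nat.eq_one_of_dvd_coprimes
      (Nat.Coprime.pow_left k ((Nat.Prime.coprime_iff_not_dvd hp.out).2 hxo))
      (orderOf_dvd_of_pow_eq_one h4) (orderOf_dvd_of_pow_eq_one h2))
  rw [h3, one_smul] at hxy
  by_cases hQ : Q = P
  · rw [hQ, hxP]
  · obtain ⟨u, hu, rfl⟩ := hall Q hQ
    rw [← mul_smul, ← hcomm u hu, mul_smul, hxy]

/-- The `p'`-elements of `C(P)`. -/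
theorem cent_of_card {S : Subgroup (G ⧸ pPrimeCore p G)} (hS : Cen p S) (P : Sylow p G) (hP1 : (P : Subgroup G) ≠ ⊥)
    (hPS : img p (P : Subgroup G) ≤ S) (hTI : IsTI (P : Subgroup G))
    (hc : Nat.card (Sylow p G) = 1 + Nat.card (P : Subgroup G)) :
    ∀ x ∈ Subgroup.centralizer ((P : Subgroup G) : Set G), ¬ p ∣ orderOf x → x ∈ pPrimeCore p G := by
  intro x hx hxo
  have hZn : (pPrimeCore p G).Normal := Lib.Cores.pPrimeCore_normal p
  have := hS.soc.normal
  have := hS.soc.simple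
  let L : Subgroup G := (MulAction.toPermHom G (Sylow p G)).ker
  have hL : ∀ g : G, g ∈ L ↔ ∀ Q : Sylow p G, g • Q = Q := fun g => by
    rw [MonoidHom.mem_ker, Equiv.ext_iff]; rfl
  have hn : (L.map (QuotientGroup.mk' (pPrimeCore p G))).Normal :=
    Subgroup.Normal.map inferInstance _ (QuotientGroup.mk'_surjective _)
  have hxL : x ∈ L := (hL x).2 (smul_eq_of_cent P hTI hc hx hxo)
  rcases (hn.subgroupOf S).eq_bot_or_eq_top with h1 | h1
  · have h2 := Subgroup.subgroupOf_eq_bot.1 h1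
    have h3 : QuotientGroup.mk' (pPrimeCore p G) x ∈ Subgroup.centralizer (S : Set (G ⧸ pPrimeCore p G)) := by
      rw [Subgroup.mem_centralizer_iff]
      intro y hy
      exact (Subgroup.commute_of_normal_of_disjoint _ S hn inferInstance h2 _ y ⟨x, hxL, rfl⟩ hy).symm.eq
    rw [hS.soc.cent, Subgroup.mem_bot] at h3
    exact (QuotientGroup.eq_one_iff x).1 h3
  · exfalso
    apply hP1
    rw [eq_bot_iff]
    intro u hu
    obtain ⟨l, hl, hlu⟩ := Subgroup.subgroupOf_eq_top.1 h1 (hPS ⟨u, hu, rfl⟩)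
    rw [QuotientGroup.mk'_eq_mk'] at hlu
    obtain ⟨z, hz, rfl⟩ := hlu
    obtain ⟨T, w, h⟩ := H608.TI.exists_RO P hTI hc
    have hw : w • P ≠ P := fun h1 => h.wN (Sylow.smul_eq_iff_mem_normalizer.1 h1)
    refine H608.TI.free P hTI hw hu ?_
    rw [mul_smul, Sylow.smul_eq_iff_mem_normalizer.2 (Subgroup.center_le_normalizer _ (hS.cen hz)), (hL l).1 hl]

/-- The number of the Sylow subgroups. -/
theorem card_sylow_of_fit {S : Subgroup (G ⧸ pPrimeCore p G)} (hS : Cen p S) (P : Sylow p G)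
    (hTI : IsTI (P : Subgroup G)) (hf : H476.TI.Fit p S) :
    Nat.card (Sylow p G) = 1 + Nat.card (P : Subgroup G) := by
  have hZn : (pPrimeCore p G).Normal := Lib.Cores.pPrimeCore_normal p
  have := hS.soc.normal
  have := hS.soc.simple
  have hT := H666.Link.isTI_of_conj P hTI
  have hN : ¬ p ∣ Nat.card (pPrimeCore p G) := H681.TI.core_not_dvd
  have hc : ∀ x : G, H666.TI.PElt p x → ∀ n ∈ pPrimeCore p G, x * n = n * x := fun x _ n hn =>
    Subgroup.mem_center_iff.1 (hS.cen hn) x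
  have hTQ := H327.TI.isTI_quot hT hN hc
  have hd : p ∣ Nat.card S := by
    obtain ⟨k, h, g, hk, hg, h1, -, -⟩ := hf
    have h2 : Nat.card S = p ^ k * ((p ^ k + 1) * h) := by
      apply Nat.eq_of_mul_eq_mul_left hg
      rw [h1]
      ring
    rw [h2]
    exact (dvd_pow_self p (by omega)).mul_right _
  rw [← H476.TI.card_sylow_quot hN hc, H476.TI.card_sylow_of hTQ S hd (fun R => hf.card_sylow (hTQ.subgroup S) R)
    (P.mapSurjective (QuotientGroup.mk'_surjective _)), Sylow.coe_mapSurjective, H476.TI.card_map hN hc]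

end group

/-- `H` is a perfect central extension of `S` by a `p'`-group. -/
structure Cov (p : ℕ) {H S : Type u} [Group H] [Group S] (π : H →* S) : Prop where
  surj : Function.Surjective π
  cen : π.ker ≤ Subgroup.center H
  cop : ¬ p ∣ Nat.card π.ker
  perf : commutator H = ⊤
  simple : IsSimpleGroup S
  nonab : ¬ IsMulCommutative S

/-- The statement to be proved for a family of simple groups. -/
def PermRow (Ψ : ℕ → (S : Type u) → [Group S] → Prop) : Prop :=
  ∀ (p : ℕ) [Fact p.Prime] (H S : Type u) [Group H] [Finite H] [Group S] (π : H →* S) (P : Sylow p H), Cov p π → Ψ p S →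
    IsTI (P : Subgroup H) → Nat.card (Sylow p H) = 1 + Nat.card (P : Subgroup H) → Rk2 p (P : Subgroup H) →
    Perm p (P : Subgroup H)

theorem ne_bot_of_rk {X : Type u} [Group X] {p : ℕ} [hp : Fact p.Prime] {D : Subgroup X} (h : Rk2 p D) : D ≠ ⊥ := by
  obtain ⟨V, h1, -, h2⟩ := h
  rintro rfl
  rw [le_bot_iff.1 h1, Subgroup.card_bot] at h2
  exact (Nat.one_lt_pow two_ne_zero hp.out.one_lt).ne h2

/-- **The rows of rank one.** -/
theorem srow_of_perm (Ψ : ℕ → (S : Type u) → [Group S] → Prop)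
    (hfit : ∀ (p : ℕ) [Fact p.Prime] (S : Type u) [Group S], Ψ p S → H476.TI.Fit p S) (hrow : PermRow Ψ) :
    SRow.{u} (fun p a S _ => a ∧ Ψ p S) := by
  intro p hp G _ _ S M B P hS hyp hrk hΦ
  obtain ⟨hPS, hΨ⟩ := hΦ
  have hZn : (pPrimeCore p G).Normal := Lib.Cores.pPrimeCore_normal p
  have := hS.soc.normal
  have := hS.soc.simple
  have hP1 := ne_bot_of_rk hrk
  have hTI : IsTI (P : Subgroup G) := hyp.ti
  have hc := card_sylow_of_fit hS P hTI (hfit p S hΨ)
  refine concl_of_perm hyp.modu P hP1 hTI hS.cen H681.TI.core_not_dvd (cent_of_card hS P hP1 hPS hTI hc) hyp.blk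
    hyp.dfc ?_
  have hcen : pPrimeCore p G ≤ Subgroup.centralizer ((P : Subgroup G) : Set G) :=
    hS.cen.trans (Subgroup.center_le_centralizer _)
  have hsit : H723.TI.Sit p P S := ⟨hTI, hcen, hS.soc.normal, hS.soc.simple, hS.soc.nonab, hS.soc.cent⟩
  have hE := H681.TI.normalClosure_eq P hsit hP1 hPS
  have hperf := H681.TI.perfect_normalClosure P hcen hE (H681.TI.perfect_of_simple hS.soc.nonab)
  set E := Subgroup.normalClosure ((P : Subgroup G) : Set G) with hEdef
  have hEn : E.Normal := Subgroup.normalClosure_normal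
  have hPE : (P : Subgroup G) ≤ E := Subgroup.le_normalClosure
  let π : E →* S := (MulEquiv.subgroupCongr hE).toMonoidHom.comp ((QuotientGroup.mk' (pPrimeCore p G)).subgroupMap E)
  have hker : π.ker = (pPrimeCore p G).subgroupOf E := by
    ext x
    rw [MonoidHom.mem_ker, Subgroup.mem_subgroupOf, ← QuotientGroup.eq_one_iff (N := pPrimeCore p G)]
    exact ⟨fun h => congrArg Subtype.val h, fun h => Subtype.ext h⟩
  have hcov : Cov p π := by
    refine ⟨(MulEquiv.subgroupCongr hE).surjective.comp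
      ((QuotientGroup.mk' (pPrimeCore p G)).subgroupMap_surjective E), ?_, ?_, hperf, hS.soc.simple, hS.soc.nonab⟩
    · rw [hker]
      intro x hx
      rw [Subgroup.mem_center_iff]
      exact fun g => Subtype.ext (Subgroup.mem_center_iff.1 (hS.cen hx) g)
    · rw [hker]
      intro h1
      apply H681.TI.core_not_dvd (p := p) (G := G)
      refine h1.trans ?_
      rw [← Subgroup.card_map_of_injective (Subgroup.subtype_injective E), Subgroup.subgroupOf_map_subtype]
      exact Subgroup.card_dvd_of_le inf_le_left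
  let P₀ : Sylow p E := P.subtype hPE
  have hP₀ : (P₀ : Subgroup E) = (P : Subgroup G).subgroupOf E := rfl
  have hmap : (P₀ : Subgroup E).map E.subtype = P := by
    rw [hP₀, Subgroup.subgroupOf_map_subtype, inf_eq_left.2 hPE]
  have hT := H666.Link.isTI_of_conj P hTI
  have hd : p ∣ Nat.card E := by
    refine Dvd.dvd.trans ?_ (Subgroup.card_dvd_of_le hPE)
    rw [P.card_eq_multiplicity]
    exact dvd_pow_self p (fact_pos P hP1).ne'
  refine Perm.transfer_sylow E.subtype (by rw [Subgroup.range_subtype]; exact hEn) P₀ P hmap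
    (fun y _ hy => Subtype.ext hy) (by rw [Subgroup.ker_subtype]; exact bot_le) (hrow p E S π P₀ hcov hΨ ?_ ?_ ?_)
  · intro g hg
    rw [eq_bot_iff]
    intro x hx
    by_contra hx1
    apply hg
    have h1 := (Subgroup.mem_inf.1 hx).2
    rw [Subgroup.mem_pointwise_smul_iff_inv_smul_mem, ← map_inv, MulAut.smul_def, MulAut.conj_apply, inv_inv] at h1
    have h2 : (g : G) ∈ Nm (P : Subgroup G) :=
      hTI.mem (x := (x : G)) (Subgroup.mem_inf.1 hx).1 (fun h3 => hx1 (Subtype.ext h3)) h1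
    rw [Subgroup.mem_normalizer_iff]
    exact fun y => Subgroup.mem_normalizer_iff.1 h2 y
  · rw [H476.TI.card_sylow_normal hT E hd, hc, hP₀,
      Nat.card_congr (Subgroup.subgroupOfEquivOfLe hPE).toEquiv]
  · obtain ⟨V, h1, h2, h3⟩ := hrk
    have hVE : V ≤ E := h1.trans hPE
    refine ⟨V.subgroupOf E, fun x hx => h1 hx, ?_, ?_⟩
    · refine ⟨⟨⟨fun a b => Subtype.ext (Subtype.ext ?_)⟩⟩, fun a ha => Subtype.ext (h2.2 a ha)⟩
      have h4 := congrArg Subtype.val (h2.1.is_comm.comm (⟨a, a.2⟩ : V) ⟨b, b.2⟩)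
      exact h4
    · rw [Nat.card_congr (Subgroup.subgroupOfEquivOfLe hVE).toEquiv, h3]

end Cfsg.Agent.TID.Syl
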