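import Mathlib
import Cfsg.Agent.TID.Syl.Concl

/-!
# S4622, Sylow rows: the conclusion from the numbers of the characters of positive height (helper1)

* `concl_of_counts` : for a central `p'`-subgroup `K` containing the `p'`-elements of `C(P)`;
* `concl_of_counts_cen` : in the situation of the rows of rank one;
* `count_lies` : `k(B) = k(b)` for each linear character of `K`.
-/

set_option autoImplicit false
set_option linter.unusedSectionVars false

namespace Cfsg.Agent.TID.Syl

open Cfsg Cfsg.Agent.Characters.Core Cfsg.Agent.Characters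
open Cfsg.Agent.TID.Blk (Nm Concl kh)
open Cfsg.Agent.H622.Over (Lies)
open Cfsg.Agent.H608.TI (IsTI RO)
open Cfsg.Agent.H681.TI (DZ)

universe u

variable {G : Type u} [Group G] [Finite G] {p : ℕ} [hp : Fact p.Prime] {M : Ideal AlgInt}

/-- **The conclusion from the counts.** -/
theorem concl_of_counts (hM : IsPModular p M) (P : Sylow p G) (hP1 : (P : Subgroup G) ≠ ⊥)
    (hTI : IsTI (P : Subgroup G)) {K : Subgroup G} (hKc : K ≤ Subgroup.center G) (hK : ¬ p ∣ Nat.card K)
    (hC : ∀ x ∈ Subgroup.centralizer ((P : Subgroup G) : Set G), ¬ p ∣ orderOf x → x ∈ K)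
    {B : Set (IrrCharacter G)} (hB : IsPBlock M B) (hBP : IsDefectGroup p M B P)
    (hcnt : ∀ (c : K →* ℂˣ) (h : ℕ), 0 < h → h < (Nat.card G).factorization p →
      Nat.card {χ : IrrCharacter G // Lies K c (χ : G → ℂ) ∧ nu p (χ : G → ℂ) = h} =
      Nat.card {ψ : IrrCharacter (Nm (P : Subgroup G)) //
        Lies (K.subgroupOf (Nm (P : Subgroup G))) (cN P c) (ψ : Nm (P : Subgroup G) → ℂ) ∧
          nu p (ψ : Nm (P : Subgroup G) → ℂ) = h}) :
    Concl p M B (P : Subgroup G) := by
  refine Blk.concl_of_kh hM hB hBP fun b hb => ?_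
  obtain ⟨c, h1, h2⟩ := blocks_lies hM P hP1 hTI hKc hK hC hBP hb
  have hpos : ∀ h, 0 < h → kh p B h = kh p b h := by
    intro h h0
    by_cases ha : h < (Nat.card G).factorization p
    · have h3 := hcnt c h h0 ha
      unfold kh
      rw [Nat.card_congr (Equiv.subtypeEquivRight (q := fun χ : IrrCharacter G =>
          Lies K c (χ : G → ℂ) ∧ nu p (χ : G → ℂ) = h) fun χ => ?_), h3]
      · refine Nat.card_congr (Equiv.subtypeEquivRight fun ψ => ?_)
        rw [← h2]
        exact and_congr_right fun hψ => by rw [height_eq' hM P hBP hb hψ]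
      · constructor
        · rintro ⟨h4, h5⟩
          exact ⟨((h1 χ).1 h4).1, by rw [← height_eq hM P hB hBP h4, h5]⟩
        · rintro ⟨h4, h5⟩
          have h6 : χ ∈ B := (h1 χ).2 ⟨h4, fun h7 => by
            unfold nu at h5
            unfold DZ at h7
            omega⟩
          exact ⟨h6, by rw [height_eq hM P hB hBP h6, h5]⟩
    · rw [Blk.kh_eq_zero B, Blk.kh_eq_zero b]
      · intro ψ hψ h3
        rw [height_eq' hM P hBP hb hψ] at h3
        have := nu_lt' hM P hP1 hBP hb hψ
        omega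
      · intro χ hχ h3
        rw [height_eq hM P hB hBP hχ] at h3
        have := nu_lt χ.2 ((h1 χ).1 hχ).2
        omega
  intro h
  rcases Nat.eq_zero_or_pos h with rfl | h0
  swap
  · exact hpos h h0
  have h3 := card_eq hM P hTI hBP hb
  rw [Blk.card_eq_sum_kh (p := p) B (Finset.range ((Nat.card G).factorization p + 1)) (fun χ hχ => by
      rw [height_eq hM P hB hBP hχ]
      exact Finset.mem_range.2 ((nu_lt χ.2 ((h1 χ).1 hχ).2).trans (Nat.lt_succ_self _))),
    Blk.card_eq_sum_kh (p := p) b (Finset.range ((Nat.card G).factorization p + 1)) (fun ψ hψ => by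
      rw [height_eq' hM P hBP hb hψ]
      exact Finset.mem_range.2 ((nu_lt' hM P hP1 hBP hb hψ).trans (Nat.lt_succ_self _))),
    Finset.sum_range_succ', Finset.sum_range_succ',
    Finset.sum_congr rfl fun h _ => hpos (h + 1) (Nat.succ_pos h)] at h3
  omega

/-- The same in the situation of the rows of rank one. -/
theorem concl_of_counts_cen {S : Subgroup (G ⧸ pPrimeCore p G)} {B : Set (IrrCharacter G)} (P : Sylow p G)
    (hS : Cen p S) (hyp : Hyp p M B (P : Subgroup G)) (hrk : Rk2 p (P : Subgroup G))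
    (hPS : img p (P : Subgroup G) ≤ S) (hfit : H476.TI.Fit p S)
    (hcnt : ∀ (c : pPrimeCore p G →* ℂˣ) (h : ℕ), 0 < h → h < (Nat.card G).factorization p →
      Nat.card {χ : IrrCharacter G // Lies (pPrimeCore p G) c (χ : G → ℂ) ∧ nu p (χ : G → ℂ) = h} =
      Nat.card {ψ : IrrCharacter (Nm (P : Subgroup G)) //
        Lies ((pPrimeCore p G).subgroupOf (Nm (P : Subgroup G))) (cN P c) (ψ : Nm (P : Subgroup G) → ℂ) ∧
          nu p (ψ : Nm (P : Subgroup G) → ℂ) = h}) :
    Concl p M B (P : Subgroup G) :=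
  concl_of_counts hyp.modu P (ne_bot_of_rk hrk) hyp.ti hS.cen H681.TI.core_not_dvd
    (cent_of_card hS P (ne_bot_of_rk hrk) hPS hyp.ti (card_sylow_of_fit hS P hyp.ti hfit)) hyp.blk hyp.dfc hcnt

end Cfsg.Agent.TID.Syl
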