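import Mathlib
import Cfsg.Agent.TID.Syl.Counts
import Cfsg.Agent.Blocks.ExistsModular
import Cfsg.Agent.H596.Degree

/-!
# S4622, Sylow rows: tools for `PermRow` (helper1)

* `perm_of_cover` : `Perm` for a central quotient (and for all the Sylow subgroups);
* `Cov.fact` : the `p`-part of the order;
* `permAt_of_empty`, `perm_of_small` (`|P| ≤ p ^ 2`), `nu_zero_of_comm` (`P` abelian);
* `count_lies` : `k(B) = k(b)` for each linear character of the central subgroup.
-/

set_option autoImplicit false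
set_option linter.unusedSectionVars false

namespace Cfsg.Agent.TID.Syl

open Cfsg Cfsg.Agent.Characters.Core Cfsg.Agent.Characters
open Cfsg.Agent.TID.Blk (Nm Concl kh)
open Cfsg.Agent.H622.Over (Lies)
open Cfsg.Agent.H608.TI (IsTI RO)
open Cfsg.Agent.H681.TI (DZ)
open scoped Pointwise

universe u v

variable {G : Type u} [Group G] [Finite G] {p : ℕ} [hp : Fact p.Prime]

/-- `Perm` for a central quotient. -/
theorem perm_of_cover {Γ : Type v} [Group Γ] [Finite Γ] (φ : Γ →* G) (hs : Function.Surjective φ)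
    (hc : φ.ker ≤ Subgroup.center Γ) (hk : ¬ p ∣ Nat.card φ.ker) (P₀ : Sylow p Γ) (h : Perm p (P₀ : Subgroup Γ))
    (P : Sylow p G) : Perm p (P : Subgroup G) := by
  obtain ⟨g, hg⟩ := MulAction.exists_smul_eq G (P₀.mapSurjective hs) P
  have hker : ((MulAut.conj g).toMonoidHom.comp φ).ker = φ.ker := by
    ext x
    rw [MonoidHom.mem_ker, MonoidHom.mem_ker, MonoidHom.comp_apply]
    exact (MulAut.conj g).map_eq_one_iff
  refine Perm.transfer_sylow ((MulAut.conj g).toMonoidHom.comp φ) ?_ P₀ P ?_ (fun y hy h1 => ?_) ?_ h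
  · rw [MonoidHom.range_eq_top.2 ((MulAut.conj g).surjective.comp hs)]
    infer_instance
  · rw [← hg, ← Subgroup.map_map]
    rfl
  · have h2 : y ∈ φ.ker := by rw [← hker]; exact h1
    obtain ⟨k, hk'⟩ := P₀.2 ⟨y, hy⟩
    have h3 : y ^ p ^ k = 1 := congrArg Subtype.val hk'
    exact orderOf_eq_one_iff.1 (Nat.eq_one_of_dvd_coprimes
      (Nat.Coprime.pow_left k ((Nat.Prime.coprime_iff_not_dvd hp.out).2 hk))
      (orderOf_dvd_of_pow_eq_one h3) (Subgroup.orderOf_dvd_natCard _ h2))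
  · rw [hker]
    exact hc.trans (Subgroup.center_le_normalizer _)

theorem Cov.card {H S : Type u} [Group H] [Finite H] [Group S] {π : H →* S} (h : Cov p π) :
    Nat.card H = Nat.card π.ker * Nat.card S := by
  rw [← Subgroup.card_mul_index π.ker, Subgroup.index_ker, MonoidHom.range_eq_top.2 h.surj, Subgroup.card_top]

theorem Cov.fact {H S : Type u} [Group H] [Finite H] [Group S] {π : H →* S} (h : Cov p π) :
    (Nat.card H).factorization p = (Nat.card S).factorization p := by
  have : Finite S := Finite.of_surjective π h.surj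
  rw [h.card, Nat.factorization_mul Nat.card_pos.ne' Nat.card_pos.ne', Finsupp.add_apply,
    Nat.factorization_eq_zero_of_not_dvd h.cop, zero_add]

theorem two_le_fact (P : Sylow p G) (h : Rk2 p (P : Subgroup G)) : 2 ≤ (Nat.card G).factorization p := by
  obtain ⟨V, h1, -, h2⟩ := h
  have h3 := Subgroup.card_dvd_of_le h1
  rw [h2, P.card_eq_multiplicity] at h3
  exact (Nat.pow_dvd_pow_iff_le_right hp.out.one_lt).1 h3

theorem permAt_of_empty {P : Subgroup G} {h : ℕ} (h1 : ∀ χ : IrrCharacter G, nu p (χ : G → ℂ) ≠ h)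
    (h2 : ∀ ψ : IrrCharacter (Nm P), nu p (ψ : Nm P → ℂ) ≠ h) : PermAt p P h :=
  ⟨fun χ hχ => (h1 χ hχ).elim, fun ψ hψ => (h2 ψ hψ).elim⟩

/-- The Sylow subgroup of the normalizer. -/
def sylN (P : Sylow p G) : Sylow p (Nm (P : Subgroup G)) := P.subtype Subgroup.le_normalizer

theorem coe_sylN (P : Sylow p G) : (sylN P : Subgroup (Nm (P : Subgroup G))) = PN (P : Subgroup G) := rfl

theorem nu_zero_of_comm (P : Sylow p G) (hab : ∀ x ∈ (P : Subgroup G), ∀ y ∈ (P : Subgroup G), x * y = y * x)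
    {ψ : Nm (P : Subgroup G) → ℂ} (hψ : IsIrrCharacter _ ψ) : nu p ψ = 0 := by
  have := pn_normal (P : Subgroup G)
  have h1 := H596.charDegree_dvd_index hψ (PN (P : Subgroup G)) fun a ha b hb => Subtype.ext (hab a ha b hb)
  exact Nat.factorization_eq_zero_of_not_dvd fun h2 => (sylN P).not_dvd_index (h2.trans h1)

theorem nu_zero_of_small {X : Type u} [Group X] [Finite X] (Q : Sylow p X)
    (hTI : ∀ x : X, (Q : Subgroup X) ⊓ (Q : Subgroup X).map (MulAut.conj x).toMonoidHom = ⊥ ∨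
      (Q : Subgroup X) ⊓ (Q : Subgroup X).map (MulAut.conj x).toMonoidHom = Q)
    (h2 : (Nat.card X).factorization p ≤ 2) (χ : IrrCharacter X) (h : ¬ DZ p (χ : X → ℂ)) : nu p (χ : X → ℂ) = 0 := by
  obtain ⟨M, hM⟩ := Blocks.ExistsModular.exists_isPModular hp.out
  have := hM.2.1.isPrime
  have h1 := H681.TI.full_or_dz hM Q hTI χ h
  have h3 := Blk.height_small hM (A := blockOf M (χ : X → ℂ)) ⟨χ, rfl⟩ (by omega) χ (Blocks.Basic.mem_blockOf_self χ)
  have h4 := Blk.fact_degree (p := p) (Blocks.Basic.mem_blockOf_self (M := M) χ)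
  unfold nu
  omega

theorem sylN_conj (P : Sylow p G) (x : Nm (P : Subgroup G)) :
    (sylN P : Subgroup (Nm (P : Subgroup G))).map (MulAut.conj x).toMonoidHom = sylN P := by
  have := (sylN P).unique_of_normal (pn_normal (P : Subgroup G))
  exact congrArg Sylow.toSubgroup (Subsingleton.elim (x • sylN P) (sylN P))

/-- `Perm` for `|P| ≤ p ^ 2`. -/
theorem perm_of_small (P : Sylow p G) (hTI : IsTI (P : Subgroup G)) (h2 : (Nat.card G).factorization p ≤ 2) :
    Perm p (P : Subgroup G) := by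
  intro h h0 h1
  refine permAt_of_empty (fun χ hχ => ?_) (fun ψ hψ => ?_)
  · have h3 := nu_zero_of_small P (H681.TI.inf_eq_of_ti P hTI) h2 χ (fun h4 => by
      unfold nu at hχ
      unfold DZ at h4
      omega)
    omega
  · have h5 := fact_norm P
    have h3 := nu_zero_of_small (sylN P) (fun x => Or.inr (by rw [sylN_conj, inf_idem])) (by omega) ψ (fun h4 => by
      unfold nu at hψ
      unfold DZ at h4
      omega)
    omega

/-- The blocks of the normalizer have defect group `P`. -/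
theorem defect_norm {M : Ideal AlgInt} (hM : IsPModular p M) (P : Sylow p G)
    {b : Set (IrrCharacter (Nm (P : Subgroup G)))} (hb : IsPBlock M b) :
    IsDefectGroup p M b (PN (P : Subgroup G)) := by
  obtain ⟨D, hD⟩ := H592.Defect.exists_defectGroup p hM hb
  have hn := pn_normal (P : Subgroup G)
  have := (sylN P).unique_of_normal hn
  have h1 : D ≤ PN (P : Subgroup G) := by
    obtain ⟨Q, hQ⟩ := (H592.Defect.isPGroup_of_isDefectGroup hD).exists_le_sylow
    rw [Subsingleton.elim Q (sylN P)] at hQ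
    exact hQ
  obtain ⟨x, -, -, hx⟩ := S0956.result p M hM _ hb _ hD (sylN P) h1
  rw [sylN_conj, inf_idem, coe_sylN] at hx
  rw [hx]
  exact hD

set_option maxHeartbeats 200000 in
/-- **`k(B) = k(b)` for each linear character of `K`.** -/
theorem count_lies (P : Sylow p G) (hP1 : (P : Subgroup G) ≠ ⊥) (hTI : IsTI (P : Subgroup G)) {K : Subgroup G}
    (hKc : K ≤ Subgroup.center G) (hK : ¬ p ∣ Nat.card K)
    (hC : ∀ x ∈ Subgroup.centralizer ((P : Subgroup G) : Set G), ¬ p ∣ orderOf x → x ∈ K) (c : K →* ℂˣ) :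
    Nat.card {χ : IrrCharacter G // Lies K c (χ : G → ℂ) ∧ ¬ DZ p (χ : G → ℂ)} =
      Nat.card {ψ : IrrCharacter (Nm (P : Subgroup G)) //
        Lies (K.subgroupOf (Nm (P : Subgroup G))) (cN P c) (ψ : Nm (P : Subgroup G) → ℂ)} := by
  obtain ⟨M, hM⟩ := Blocks.ExistsModular.exists_isPModular hp.out
  have := hM.2.1.isPrime
  have := Fintype.ofFinite (Nm (P : Subgroup G))
  have := Fintype.ofFinite (K.subgroupOf (Nm (P : Subgroup G)))
  obtain ⟨ξ, hξ, h1⟩ := H672.exists_over_subtype (K.subgroupOf (Nm (P : Subgroup G)))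
    (H672.isIrr_lf (cN (P : Subgroup G) c))
  rw [H672.over_subtype_iff] at h1
  have h2 := (H622.Over.lies_iff_classInner (central_sub (P : Subgroup G) hKc) (cN (P : Subgroup G) c) hξ).2 h1
  obtain ⟨ξ', rfl⟩ : ∃ ξ' : IrrCharacter (Nm (P : Subgroup G)), (ξ' : Nm (P : Subgroup G) → ℂ) = ξ := ⟨⟨ξ, hξ⟩, rfl⟩
  have hb : IsPBlock M (blockOf M (ξ' : Nm (P : Subgroup G) → ℂ)) := ⟨ξ', rfl⟩
  obtain ⟨B, -, hBP, hbB⟩ := (S0920.result p M hM (P : Subgroup G) P.2).1 _ hb (defect_norm hM P hb)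
  obtain ⟨d, h3, h4⟩ := blocks_lies hM P hP1 hTI hKc hK hC hBP hbB
  have h7 := (h4 ξ').1 (Blocks.Basic.mem_blockOf_self ξ')
  have h5 : d = c := cN_inj hKc (lies_uniq hξ h7 h2)
  subst h5
  have h6 := card_eq hM P hTI hBP hbB
  have h8 := Nat.card_congr (Equiv.subtypeEquivRight h3)
  have h9 := Nat.card_congr (Equiv.subtypeEquivRight h4)
  exact h8.symm.trans (h6.trans h9)

end Cfsg.Agent.TID.Syl
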