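import Mathlib
import Cfsg.Agent.TID.Syl.Cover
import Cfsg.Agent.Blocks.Deflate

/-!
# S4622, the row `Sz(q)`: the characters of the Borel subgroup (helper1)
-/

set_option autoImplicit false
set_option linter.unusedSectionVars false

namespace Cfsg.Agent.TID.Syl

open Cfsg Cfsg.Agent.Characters.Core
open scoped ComplexConjugate

universe u

/-- The relations in the Borel subgroup of `Sz(q)`. -/
structure Bor {F : Type} [Field F] (θ : F →+* F) {X : Type u} [Group X] (u : F → F → X) (d : Fˣ → X) : Prop where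
  two : (2 : F) = 0
  sq : ∀ x, θ (θ x) = x ^ 2
  u_mul : ∀ a b c e, u a b * u c e = u (a + c) (b + e + a * θ c)
  u_inj : ∀ a b c e, u a b = u c e → a = c ∧ b = e
  d_mul_u : ∀ (k : Fˣ) a b, d k * u a b = u (a * k ^ 2 * (θ k)⁻¹) (b * θ k) * d k
  d_one : d 1 = 1
  surj : ∀ g, ∃ a b k, g = u a b * d k
  card : Nat.card X = Nat.card F ^ 2 * (Nat.card F - 1)

namespace Bor

variable {F : Type} [Field F] [Fintype F] {θ : F →+* F} {X : Type u} [Group X] [Finite X] {u : F → F → X}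
  {d : Fˣ → X} (B : Bor θ u d)
include B

theorem add_self (x : F) : x + x = 0 := by linear_combination x * B.two

theorem u_zero : u 0 0 = 1 := by
  have h := B.u_mul 0 0 0 0
  simp only [add_zero, zero_mul] at h
  exact mul_eq_left.1 h

theorem z_mul (a b c : F) : u 0 c * u a b = u a (b + c) := by
  rw [B.u_mul, zero_add, zero_mul, add_zero, add_comm c]

theorem mul_z (a b c : F) : u a b * u 0 c = u a (b + c) := by
  rw [B.u_mul, add_zero, map_zero, mul_zero, add_zero]

theorem d_mul_z (k : Fˣ) (b : F) : d k * u 0 b = u 0 (b * θ k) * d k := by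
  rw [B.d_mul_u, zero_mul, zero_mul]

theorem x_inv : (u 1 0)⁻¹ = u 1 1 := by
  rw [inv_eq_iff_mul_eq_one, B.u_mul, B.add_self, zero_add, map_one, mul_one, B.add_self, B.u_zero]

theorem fixed {t : F} (h : θ t = t) : t = 0 ∨ t = 1 := by
  have h1 := B.sq t
  rw [h, h] at h1
  have h2 : t * (t - 1) = 0 := by linear_combination -h1
  rcases mul_eq_zero.1 h2 with h3 | h3
  · exact Or.inl h3
  · exact Or.inr (sub_eq_zero.1 h3)

/-- The centre of the unipotent subgroup. -/
def Z : Subgroup X where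
  carrier := {g | ∃ b, g = u 0 b}
  mul_mem' := by
    rintro _ _ ⟨a, rfl⟩ ⟨b, rfl⟩
    exact ⟨a + b, B.mul_z 0 a b⟩
  one_mem' := ⟨0, B.u_zero.symm⟩
  inv_mem' := by
    rintro _ ⟨a, rfl⟩
    exact ⟨a, by rw [inv_eq_iff_mul_eq_one, B.mul_z, B.add_self, B.u_zero]⟩

theorem Z_normal : B.Z.Normal := by
  refine ⟨?_⟩
  rintro _ ⟨c, rfl⟩ g
  obtain ⟨a, b, k, rfl⟩ := B.surj g
  refine ⟨c * θ k, ?_⟩
  rw [mul_inv_eq_iff_eq_mul, mul_assoc, B.d_mul_z, ← mul_assoc, ← mul_assoc, B.mul_z, B.z_mul]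

theorem sum_Z [Fintype B.Z] (f : X → ℂ) : ∑ x : B.Z, f x = ∑ b, f (u 0 b) := by
  refine (Fintype.sum_bijective (fun b => (⟨u 0 b, b, rfl⟩ : B.Z)) ⟨fun a b h => ?_, ?_⟩ _ _ fun _ => rfl).symm
  · exact (B.u_inj _ _ _ _ (congrArg Subtype.val h)).2
  · rintro ⟨_, b, rfl⟩
    exact ⟨b, rfl⟩

theorem sum_zero {α : X → ℂ} (h : fx B.Z α = 0) (g : X) : ∑ b, α (g * u 0 b) = 0 := by
  have := Fintype.ofFinite B.Z
  have h1 := congrFun h g
  rw [fx_apply, Pi.zero_apply, mul_eq_zero, inv_eq_zero, or_iff_right card_ne_zero_complex] at h1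
  rw [← B.sum_Z (fun x => α (g * x)), h1]

theorem fx_conj (α : X → ℂ) (h : fx B.Z α = 0) : fx B.Z (fun g => conj (α g)) = 0 := by
  have := Fintype.ofFinite B.Z
  funext g
  rw [fx_apply, ← map_sum, B.sum_Z (fun x => α (g * x)), B.sum_zero h, map_zero, mul_zero, Pi.zero_apply]

theorem qne : (Fintype.card F : ℂ) ≠ 0 := Nat.cast_ne_zero.2 Fintype.card_ne_zero

theorem off {α : X → ℂ} (hα : IsClassFunction X α) (h : fx B.Z α = 0) {g : X} (hg : ∀ a b, g ≠ u a b) : α g = 0 := by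
  obtain ⟨a, b, k, rfl⟩ := B.surj g
  have hk : 1 + θ k ≠ 0 := by
    intro h1
    have h2 : θ k = θ 1 := by rw [map_one]; linear_combination h1 - B.two
    have h3 : k = 1 := Units.ext (θ.injective h2)
    exact hg a b (by rw [h3, B.d_one, mul_one])
  have h1 : ∀ e, α (u a b * d k * u 0 e) = α (u a b * d k) := by
    intro e
    obtain ⟨c, rfl⟩ : ∃ c, e = c * (1 + θ k) := ⟨e / (1 + θ k), by field_simp⟩
    rw [← hα (u a b * d k) (u 0 (c * θ k))]
    congr 1
    rw [eq_mul_inv_iff_mul_eq, mul_assoc, B.mul_z, ← mul_assoc, B.z_mul, mul_assoc, B.d_mul_z, ← mul_assoc, B.mul_z]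
    congr 2
    linear_combination (c * θ k ^ 2) * B.two
  have h2 := B.sum_zero h (u a b * d k)
  rw [Finset.sum_congr rfl fun e _ => h1 e, Finset.sum_const, Finset.card_univ, nsmul_eq_mul] at h2
  exact (mul_eq_zero.1 h2).resolve_left B.qne

theorem conj_z {α : X → ℂ} (hα : IsClassFunction X α) {b : F} (hb : b ≠ 0) : α (u 0 b) = α (u 0 1) := by
  obtain ⟨t, ht⟩ := Finite.surjective_of_injective θ.injective b⁻¹
  have h0 : t ≠ 0 := by
    rintro rfl
    rw [map_zero] at ht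
    exact inv_ne_zero hb ht.symm
  rw [← hα (u 0 b) (d (Units.mk0 t h0)), B.d_mul_z, mul_inv_cancel_right, Units.val_mk0, ht, mul_inv_cancel₀ hb]

theorem one_eq {α : X → ℂ} (hα : IsClassFunction X α) (h : fx B.Z α = 0) :
    α 1 = -((Fintype.card F : ℂ) - 1) * α (u 0 1) := by
  classical
  have h1 := B.sum_zero h 1
  simp only [one_mul] at h1
  rw [← Finset.add_sum_erase _ _ (Finset.mem_univ 0), B.u_zero,
    Finset.sum_congr rfl fun b hb => B.conj_z hα (Finset.ne_of_mem_erase hb), Finset.sum_const,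
    Finset.card_erase_of_mem (Finset.mem_univ _), Finset.card_univ, nsmul_eq_mul,
    Nat.cast_sub Fintype.card_pos, Nat.cast_one] at h1
  linear_combination h1

theorem split (b : F) : (∃ c, b = θ c + c) ∨ ∃ c, b + 1 = θ c + c := by
  let φ : F →+ F := θ.toAddMonoidHom + AddMonoidHom.id F
  have hφ : ∀ c, φ c = θ c + c := fun c => rfl
  have h1 : Nat.card φ.ker = 2 := by
    rw [Nat.card_eq_two_iff' (0 : φ.ker)]
    refine ⟨⟨1, by rw [AddMonoidHom.mem_ker, hφ, map_one, B.add_self]⟩, fun h => one_ne_zero (congrArg Subtype.val h),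
      fun y hy => Subtype.ext ?_⟩
    have h2 : θ y + y = 0 := y.2
    refine (B.fixed (t := y) (by linear_combination h2 - y * B.two)).resolve_left fun h => hy (Subtype.ext h)
  have h2 : φ.range.index = 2 := by
    have h3 := AddSubgroup.card_mul_index φ.range
    have h4 := AddSubgroup.card_mul_index φ.ker
    rw [AddSubgroup.index_ker, h1, ← h3, mul_comm] at h4
    exact (Nat.eq_of_mul_eq_mul_left Nat.card_pos h4).symm
  have h3 : (1 : F) ∉ φ.range := by
    rintro ⟨t, ht⟩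
    rw [hφ] at ht
    have h4 := congrArg θ ht
    rw [map_add, B.sq, map_one] at h4
    have h5 : t * (t - 1) = 0 := by linear_combination h4 - ht
    rcases mul_eq_zero.1 h5 with h6 | h6
    · rw [h6, map_zero, add_zero] at ht
      exact zero_ne_one ht
    · rw [sub_eq_zero.1 h6, map_one, B.add_self] at ht
      exact zero_ne_one ht
  by_cases hb : b ∈ φ.range
  · obtain ⟨c, hc⟩ := hb
    exact Or.inl ⟨c, hc.symm⟩
  · obtain ⟨c, hc⟩ := (AddSubgroup.add_mem_iff_of_index_two h2).2 (iff_of_false hb h3)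
    exact Or.inr ⟨c, hc.symm⟩

theorem conj_one {α : X → ℂ} (hα : IsClassFunction X α) (b c : F) : α (u 1 (b + (θ c + c))) = α (u 1 b) := by
  rw [← hα (u 1 b) (u c 0)]
  congr 1
  rw [eq_mul_inv_iff_mul_eq, B.u_mul, B.u_mul, map_one, add_comm c]
  congr 1
  linear_combination (θ c) * B.two

theorem one_one {α : X → ℂ} (hα : IsClassFunction X α) (h : fx B.Z α = 0) : α (u 1 1) = -α (u 1 0) := by
  have h1 := B.sum_zero h (u 1 0)
  simp only [B.mul_z, zero_add] at h1
  have h2 : ∑ b, α (u 1 (b + 1)) = 0 := by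
    rw [← h1]
    exact Fintype.sum_equiv (Equiv.addRight 1) _ _ fun _ => rfl
  have h3 : ∀ b, α (u 1 b) + α (u 1 (b + 1)) = α (u 1 0) + α (u 1 1) := by
    intro b
    rcases B.split b with ⟨c, hc⟩ | ⟨c, hc⟩
    · rw [← B.conj_one hα 0 c, ← B.conj_one hα 1 c, zero_add, ← hc, add_comm 1 b]
    · rw [← B.conj_one hα 0 c, ← B.conj_one hα 1 c, zero_add, ← hc, add_comm, add_comm b 1, ← add_assoc, B.add_self,
        zero_add]
  have h4 : ∑ b, (α (u 1 b) + α (u 1 (b + 1))) = 0 := by rw [Finset.sum_add_distrib, h1, h2, add_zero]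
  rw [Finset.sum_congr rfl fun b _ => h3 b, Finset.sum_const, Finset.card_univ, nsmul_eq_mul] at h4
  linear_combination (mul_eq_zero.1 h4).resolve_left B.qne

theorem conj_x {a : F} (ha : a ≠ 0) (b : F) :
    (∀ α : X → ℂ, IsClassFunction X α → α (u a b) = α (u 1 0)) ∨
      ∀ α : X → ℂ, IsClassFunction X α → α (u a b) = α (u 1 1) := by
  have h0 : ∀ k : Fˣ, θ k ≠ 0 := fun k h => k.ne_zero ((map_eq_zero θ).1 h)
  let f : Fˣ → Fˣ := fun k => k ^ 2 * (Units.mk0 (θ k) (h0 k))⁻¹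
  have hf : ∀ k, (f k : F) = k ^ 2 * (θ k)⁻¹ := fun k => by simp [f]
  have h1 : Function.Injective f := by
    intro k l h
    have h2 := congrArg Units.val h
    rw [hf, hf] at h2
    have h3 := h0 k
    have h4 := h0 l
    have h5 := l.ne_zero
    have h6 : θ (θ (k / l : F)) = θ (k / l : F) := by
      rw [B.sq, map_div₀]
      field_simp at h2 ⊢
      linear_combination h2
    rcases B.fixed h6 with h7 | h7
    · rw [map_div₀] at h7
      exact (div_ne_zero h3 h4 h7).elim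
    · rw [← map_one θ] at h7
      exact Units.ext ((div_eq_one_iff_eq h5).1 (θ.injective h7))
  obtain ⟨k, hk⟩ := Finite.surjective_of_injective h1 (Units.mk0 a ha)⁻¹
  have h2 := congrArg Units.val hk
  rw [hf, Units.val_inv_eq_inv_val, Units.val_mk0] at h2
  have h3 : ∀ α : X → ℂ, IsClassFunction X α → α (u a b) = α (u 1 (b * θ k)) := fun α hα => by
    rw [← hα (u a b) (d k), B.d_mul_u, mul_inv_cancel_right, mul_assoc, h2, mul_inv_cancel₀ ha]
  rcases B.split (b * θ k) with ⟨c, hc⟩ | ⟨c, hc⟩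
  · exact Or.inl fun α hα => by rw [h3 α hα, ← B.conj_one hα 0 c, zero_add, hc]
  · exact Or.inr fun α hα => by
      rw [h3 α hα, ← B.conj_one hα 1 c, ← hc, add_comm _ 1, ← add_assoc, B.add_self, zero_add]

/-- The inner product of two class functions killed by `Z`. -/
theorem inner_eq [Fintype X] {α β : X → ℂ} (hα : IsClassFunction X α) (h : fx B.Z α = 0) (hβ : IsClassFunction X β)
    (h' : fx B.Z β = 0) : (Fintype.card F : ℂ) * classInner α β =
      α (u 0 1) * conj (β (u 0 1)) + α (u 1 0) * conj (β (u 1 0)) := by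
  classical
  have h1 : ∑ x : F × F, α (u x.1 x.2) * conj (β (u x.1 x.2)) = ∑ g, α g * conj (β g) :=
    Fintype.sum_of_injective (fun x : F × F => u x.1 x.2)
      (fun x y hxy => Prod.ext (B.u_inj _ _ _ _ hxy).1 (B.u_inj _ _ _ _ hxy).2) _ _
      (fun g hg => by rw [B.off hα h fun a b h2 => hg ⟨(a, b), h2.symm⟩, zero_mul]) fun _ => rfl
  have h2 : ∀ a, a ≠ 0 → ∑ b, α (u a b) * conj (β (u a b)) =
      Fintype.card F * (α (u 1 0) * conj (β (u 1 0))) := by
    intro a ha
    rw [← nsmul_eq_mul, ← Finset.card_univ, ← Finset.sum_const]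
    refine Finset.sum_congr rfl fun b _ => ?_
    rcases B.conj_x ha b with h3 | h3
    · rw [h3 α hα, h3 β hβ]
    · rw [h3 α hα, h3 β hβ, B.one_one hα h, B.one_one hβ h', map_neg, neg_mul_neg]
  have h3 : ∑ b, α (u 0 b) * conj (β (u 0 b)) =
      Fintype.card F * (Fintype.card F - 1) * (α (u 0 1) * conj (β (u 0 1))) := by
    rw [← Finset.add_sum_erase _ _ (Finset.mem_univ 0), B.u_zero,
      Finset.sum_congr rfl fun b hb => by
        rw [B.conj_z hα (Finset.ne_of_mem_erase hb), B.conj_z hβ (Finset.ne_of_mem_erase hb)], Finset.sum_const,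
      Finset.card_erase_of_mem (Finset.mem_univ _), Finset.card_univ, nsmul_eq_mul,
      Nat.cast_sub Fintype.card_pos, Nat.cast_one, B.one_eq hα h, B.one_eq hβ h']
    simp only [map_mul, map_neg, map_sub, map_one, Complex.conj_natCast]
    ring
  rw [Fintype.sum_prod_type, ← Finset.add_sum_erase _ _ (Finset.mem_univ 0), h3,
    Finset.sum_congr rfl fun a ha => h2 a (Finset.ne_of_mem_erase ha), Finset.sum_const,
    Finset.card_erase_of_mem (Finset.mem_univ _), Finset.card_univ, nsmul_eq_mul,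
    Nat.cast_sub Fintype.card_pos, Nat.cast_one] at h1
  have h4 : (Fintype.card F : ℂ) - 1 ≠ 0 := by
    rw [sub_ne_zero]
    exact_mod_cast Fintype.one_lt_card.ne'
  have h5 := B.qne
  rw [classInner_def, ← h1, B.card, Nat.card_eq_fintype_card, Nat.cast_mul, Nat.cast_sub Fintype.card_pos,
    Nat.cast_pow, Nat.cast_one]
  field_simp

theorem conj_vals {ψ : X → ℂ} (hψ : IsCharacter X ψ) (h : fx B.Z ψ = 0) :
    conj (ψ (u 0 1)) = ψ (u 0 1) ∧ conj (ψ (u 1 0)) = -ψ (u 1 0) := by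
  constructor
  · rw [← isCharacter_apply_inv hψ]
    congr 1
    rw [inv_eq_iff_mul_eq_one, B.mul_z, B.add_self, B.u_zero]
  · rw [← isCharacter_apply_inv hψ, B.x_inv, B.one_one (isCharacter_isClassFunction hψ) h]

/-- The characters killed by `Z`: degree and non-reality. -/
theorem degree {m : ℕ} (hF : Fintype.card F = 2 ^ (2 * m + 1)) {ψ : X → ℂ} (hψ : IsIrrCharacter X ψ)
    (h : fx B.Z ψ = 0) : charDegree ψ = 2 ^ m * (Fintype.card F - 1) ∧ ψ ≠ fun g => conj (ψ g) := by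
  have := Fintype.ofFinite X
  have hc := isIrr_isClassFunction hψ
  obtain ⟨h1, h2⟩ := B.conj_vals (isIrr_isCharacter hψ) h
  have h3 := B.inner_eq hc h hc h
  have h4 := B.inner_eq hc h (isIrr_isClassFunction (isIrr_conj hψ)) (B.fx_conj ψ h)
  rw [classInner_irr_self hψ, h1, h2] at h3
  rw [Complex.conj_conj, Complex.conj_conj] at h4
  have h5 := B.one_eq hc h
  rw [← H672.coe_charDegree hψ] at h5
  obtain ⟨t, ht⟩ : ∃ t, Fintype.card F = t + 1 := ⟨_, (Nat.sub_add_cancel Fintype.card_pos).symm⟩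
  have hq : (t : ℂ) + 1 = 2 * (2 ^ m) ^ 2 := by
    have h6 : ((t + 1 : ℕ) : ℂ) = ((2 ^ (2 * m + 1) : ℕ) : ℂ) := by rw [← ht, hF]
    push_cast at h6
    rw [h6]
    ring
  have ht0 : t ≠ 0 := by
    have := Fintype.one_lt_card (α := F)
    omega
  rw [ht, Nat.add_sub_cancel]
  rw [ht, Nat.cast_add, Nat.cast_one] at h3 h4 h5
  have h7 : ψ ≠ fun g => conj (ψ g) := by
    intro h7
    rw [← h7, classInner_irr_self hψ] at h4
    have h8 : (charDegree ψ : ℂ) ^ 2 = 2 * (2 ^ m * t) ^ 2 := by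
      rw [h5]
      linear_combination (-(t : ℂ) ^ 2 / 2) * h3 + (-(t : ℂ) ^ 2 / 2) * h4 + (t : ℂ) ^ 2 * hq
    have h9 : charDegree ψ ^ 2 = 2 * (2 ^ m * t) ^ 2 := by exact_mod_cast h8
    have h10 := congrArg (fun n => n.factorization 2) h9
    simp only [Nat.factorization_mul two_ne_zero (pow_ne_zero 2 (mul_ne_zero (pow_ne_zero m two_ne_zero) ht0)),
      Nat.factorization_pow, Finsupp.add_apply, Finsupp.smul_apply, smul_eq_mul,
      Nat.prime_two.factorization_self] at h10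
    omega
  refine ⟨?_, h7⟩
  rw [classInner_irr_ne hψ (isIrr_conj hψ) h7] at h4
  have h8 : (charDegree ψ : ℂ) ^ 2 = (2 ^ m * t) ^ 2 := by
    rw [h5]
    linear_combination (-(t : ℂ) ^ 2 / 2) * h3 + (-(t : ℂ) ^ 2 / 2) * h4 + ((t : ℂ) ^ 2 / 2) * hq
  have h9 : charDegree ψ ^ 2 = (2 ^ m * t) ^ 2 := by exact_mod_cast h8
  exact Nat.pow_left_injective two_ne_zero h9

/-- There are at most two such characters. -/
theorem eq_or_conj {ψ ψ' : X → ℂ} (hψ : IsIrrCharacter X ψ) (h : fx B.Z ψ = 0) (hψ' : IsIrrCharacter X ψ')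
    (h' : fx B.Z ψ' = 0) : ψ' = ψ ∨ ψ' = fun g => conj (ψ g) := by
  have := Fintype.ofFinite X
  by_contra h0
  rw [not_or] at h0
  have hc := isIrr_isClassFunction hψ
  have hc' := isIrr_isClassFunction hψ'
  obtain ⟨h1, h2⟩ := B.conj_vals (isIrr_isCharacter hψ) h
  have h3 := B.inner_eq hc' h' hc h
  have h4 := B.inner_eq hc' h' (isIrr_isClassFunction (isIrr_conj hψ)) (B.fx_conj ψ h)
  rw [classInner_irr_ne hψ' hψ h0.1, h1, h2] at h3
  rw [classInner_irr_ne hψ' (isIrr_conj hψ) h0.2, Complex.conj_conj, Complex.conj_conj] at h4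
  have h5 : ψ' (u 0 1) * ψ (u 0 1) = 0 := by linear_combination (-1 / 2) * h3 + (-1 / 2) * h4
  rcases mul_eq_zero.1 h5 with h6 | h6
  · exact isIrr_apply_one_ne_zero hψ' (by rw [B.one_eq hc' h', h6, mul_zero])
  · exact isIrr_apply_one_ne_zero hψ (by rw [B.one_eq hc h, h6, mul_zero])

/-- The other characters have degree dividing the index of the unipotent subgroup. -/
theorem dvd_index (P : Subgroup X) [P.Normal] (hP : ∀ g ∈ P, ∃ a b, g = u a b) {ψ : X → ℂ} (hψ : IsIrrCharacter X ψ)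
    (h : fx B.Z ψ ≠ 0) : charDegree ψ ∣ P.index := by
  have := B.Z_normal
  have := Fintype.ofFinite B.Z
  have h1 := congrFun ((fx_irr B.Z hψ).resolve_right h) 1
  rw [fx_apply] at h1
  simp only [one_mul] at h1
  obtain ⟨χ, hχ⟩ := Blocks.Deflate.exists_deflation B.Z ψ hψ fun h2 =>
    isIrr_apply_one_ne_zero hψ (by rw [← h1, h2, mul_zero])
  have h2 : charDegree ψ = charDegree (χ : X ⧸ B.Z → ℂ) :=
    H672.charDegree_of_eq (by rw [H672.coe_charDegree χ.2, hχ]; rfl)
  have := Subgroup.Normal.map ‹P.Normal› (QuotientGroup.mk' B.Z) (QuotientGroup.mk'_surjective _)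
  rw [h2]
  refine (H596.charDegree_dvd_index χ.2 (P.map (QuotientGroup.mk' B.Z)) ?_).trans
    (Subgroup.index_map_dvd _ (QuotientGroup.mk'_surjective _))
  rintro _ ⟨x, hx, rfl⟩ _ ⟨y, hy, rfl⟩
  obtain ⟨a, b, rfl⟩ := hP x hx
  obtain ⟨c, e, rfl⟩ := hP y hy
  rw [← map_mul, ← map_mul, QuotientGroup.mk'_eq_mk']
  refine ⟨u 0 (a * θ c + c * θ a), ⟨_, rfl⟩, ?_⟩
  rw [B.u_mul a, B.u_mul c, B.mul_z, add_comm c a]
  congr 1
  linear_combination (a * θ c) * B.two

end Bor

end Cfsg.Agent.TID.Syl
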