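import Mathlib
import Cfsg.Agent.TID.Syl.SzBor
import Cfsg.Agent.S0150
import Cfsg.Agent.S1162
import Cfsg.Agent.S1163
import Cfsg.Agent.S2111
import Cfsg.Agent.S2112
import Cfsg.Agent.H30.ConstVal
import Cfsg.Agent.H678.SuzGraph
import Cfsg.Agent.H95.StemCover

/-!
# S4622, the row `Sz(q)` (helper1)
-/

set_option autoImplicit false
set_option linter.unusedSectionVars false

namespace Cfsg.Agent.TID.Syl

open Cfsg Cfsg.Agent.Characters.Core
open Cfsg.Agent.TID.Blk (Nm)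
open scoped ComplexConjugate

universe u

section bor

variable {G : Type u} [Group G] [Finite G] {P : Subgroup G} {F : Type} [Field F] [Fintype F] {θ : F →+* F}
  {u : F → F → Nm P} {d : Fˣ → Nm P} (B : Bor θ u d) (hP : ∀ g : Nm P, g ∈ PN P ↔ ∃ a b, g = u a b)
  {m : ℕ} (hF : Fintype.card F = 2 ^ (2 * m + 1))
include B

include hF in
theorem Bor.res [IsSimpleGroup G] (hm : 1 ≤ m) {χ : G → ℂ} (hχ : IsIrrCharacter G χ)
    (hd : charDegree χ = 2 ^ m * (Fintype.card F - 1)) : IsIrrCharacter (Nm P) (rs P χ) ∧ fx B.Z (rs P χ) = 0 := by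
  have := Fintype.ofFinite (Nm P)
  have := B.Z_normal
  have hc : IsClassFunction (Nm P) (rs P χ) := Characters.Brauer.isClassFunction_restrict (isIrr_isClassFunction hχ) _
  obtain ⟨ψ, hψ, h1⟩ : ∃ ψ, IsIrrCharacter (Nm P) ψ ∧ classInner (rs P χ - fx B.Z (rs P χ)) ψ ≠ 0 := by
    by_contra h1
    push Not at h1
    have h2 := classFunction_eq_zero (f := rs P χ - fx B.Z (rs P χ)) (fun g x => by
      rw [Pi.sub_apply, Pi.sub_apply, hc g x, fx_class B.Z hc g x]) h1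
    have h3 := fx_mul_mem B.Z (rs P χ) 1 (y := u 0 1) ⟨1, rfl⟩
    rw [← sub_eq_zero.1 h2, one_mul] at h3
    have h4 := H30.ConstVal.eq_one_of_apply_eq hχ (x := (u 0 1 : G)) (fun h5 => one_ne_zero
      (B.u_inj _ _ _ _ ((Subtype.ext h5 : u 0 1 = 1).trans B.u_zero.symm)).2) h3
    rw [H672.charDegree_of_eq (χ := χ) (n := 1) (by rw [h4]; simp)] at hd
    have h5 : 2 ∣ 1 := by
      rw [hd]
      exact (dvd_pow_self 2 (by omega)).mul_right _
    omega
  rw [classInner_sub_left, inner_fx] at h1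
  have h2 : fx B.Z ψ = 0 := (fx_irr B.Z hψ).resolve_left fun h2 => h1 (by rw [h2, sub_self])
  rw [h2, classInner_zero_right, sub_zero] at h1
  have h3 : rs P χ = ψ := H672.eq_of_over_of_charDegree_eq (f := (Nm P).subtype) hχ hψ
    ((H672.over_subtype_iff _ _ _).2 h1) ((B.degree hF hψ h2).1.trans hd.symm)
  rw [h3]
  exact ⟨hψ, h2⟩

include hP in
theorem Bor.cusp {χ : G → ℂ} (h1 : IsIrrCharacter (Nm P) (rs P χ)) (h2 : fx B.Z (rs P χ) = 0) : Cusp P χ := by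
  have := pn_normal P
  refine (fx_irr (PN P) h1).resolve_left fun h3 => isIrr_ne_zero h1 ?_
  rw [← h2]
  refine (fx_of_inv B.Z fun g y hy => ?_).symm
  obtain ⟨b, rfl⟩ := hy
  rw [← h3]
  exact fx_mul_mem _ _ _ ((hP _).2 ⟨0, b, rfl⟩)

include hP hF in
theorem Bor.uniq (hTI : ∀ g : G, g ∉ Nm P → ∀ t ∈ P, g * t * g⁻¹ ∈ P → t = 1) {χ χ' : G → ℂ}
    (hχ : IsIrrCharacter G χ) (hχ' : IsIrrCharacter G χ') (h1 : IsIrrCharacter (Nm P) (rs P χ))
    (h2 : fx B.Z (rs P χ) = 0) (h3 : rs P χ' = rs P χ) : χ' = χ := by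
  have := Fintype.ofFinite G
  have := Fintype.ofFinite (Nm P)
  by_contra hne
  obtain ⟨ψ, hψ⟩ : ∃ ψ, ψ = rs P χ := ⟨_, rfl⟩
  obtain ⟨ψ', hψ'⟩ : ∃ ψ' : Nm P → ℂ, ψ' = fun g => conj (ψ g) := ⟨_, rfl⟩
  obtain ⟨ξ, hξ'⟩ : ∃ ξ : G → ℂ, ξ = fun g => conj (χ g) := ⟨_, rfl⟩
  have hξ : IsIrrCharacter G ξ := hξ' ▸ isIrr_conj hχ
  have h4 : rs P ξ = ψ' := by rw [hξ', hψ', hψ]
  rw [← hψ] at h1 h2 h3
  have h1' : IsIrrCharacter (Nm P) ψ' := hψ' ▸ isIrr_conj h1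
  have h2' : fx B.Z ψ' = 0 := hψ' ▸ B.fx_conj ψ h2
  have h5 : ψ ≠ ψ' := hψ' ▸ (B.degree hF h1 h2).2
  have hc : IsClassFunction (Nm P) (ψ - ψ') := fun g x => by
    rw [Pi.sub_apply, Pi.sub_apply, isIrr_isClassFunction h1 g x, isIrr_isClassFunction h1' g x]
  have hs : ∀ x : Nm P, (x : G) ∉ (P : Set G) → (ψ - ψ') x = 0 := fun x hx =>
    B.off hc (by rw [fx_sub, h2, h2', sub_zero]) fun a b h => hx ((hP x).2 ⟨a, b, h⟩)
  have h6 := S0150.result (P : Set G) hTI Subgroup.le_normalizer (ψ - ψ') (ψ - ψ') hc hc hs hs (by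
    rw [Pi.sub_apply, ← H672.coe_charDegree h1, ← H672.coe_charDegree h1', (B.degree hF h1 h2).1,
      (B.degree hF h1' h2').1, sub_self])
  rw [← ind_eq, classInner_sub_left, classInner_sub_right, classInner_sub_right, classInner_irr_self h1,
    classInner_irr_self h1', classInner_irr_ne h1 h1' h5, classInner_irr_ne h1' h1 h5.symm] at h6
  have h7 : ∀ α : G → ℂ, IsIrrCharacter G α → rs P α = ψ → classInner (ind P (ψ - ψ')) α = 1 := fun α hα h => by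
    rw [inner_ind_left P _ (isIrr_isClassFunction hα), h, classInner_sub_left, classInner_irr_self h1,
      classInner_irr_ne h1' h1 h5.symm, sub_zero]
  have h8 : classInner (ind P (ψ - ψ')) ξ = -1 := by
    rw [inner_ind_left P _ (isIrr_isClassFunction hξ), h4, classInner_sub_left, classInner_irr_self h1',
      classInner_irr_ne h1 h1' h5, zero_sub]
  have h9 : χ ≠ ξ := fun h => h5 (by rw [← h4, ← h, hψ])
  have h10 : χ' ≠ ξ := fun h => h5 (by rw [← h4, ← h, h3])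
  have h11 := h7 χ hχ hψ.symm
  have h12 := h7 χ' hχ' h3
  obtain ⟨v, hv⟩ : ∃ v, v = ind P (ψ - ψ') := ⟨_, rfl⟩
  rw [← hv] at h6 h8 h11 h12
  have h13 : v - (χ - ξ) = 0 := by
    refine classInner_self_eq_zero ?_
    simp only [classInner_sub_left, classInner_sub_right]
    rw [h6, h8, h11, ← classInner_conj_symm v χ, ← classInner_conj_symm v ξ, h8, h11, classInner_irr_self hχ,
      classInner_irr_self hξ, classInner_irr_ne hχ hξ h9, classInner_irr_ne hξ hχ h9.symm]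
    simp
  rw [sub_eq_zero.1 h13, classInner_sub_left, classInner_irr_ne hχ hχ' (Ne.symm hne),
    classInner_irr_ne hξ hχ' h10.symm, sub_zero] at h12
  exact zero_ne_one h12

end bor

theorem perm_of_bor {G : Type u} [Group G] [Finite G] [IsSimpleGroup G] (P : Sylow 2 G)
    (hTI : ∀ g : G, g ∉ Nm (P : Subgroup G) → ∀ t ∈ (P : Subgroup G), g * t * g⁻¹ ∈ (P : Subgroup G) → t = 1)
    {F : Type} [Field F] [Fintype F] {θ : F →+* F} {u : F → F → Nm (P : Subgroup G)} {d : Fˣ → Nm (P : Subgroup G)}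
    (B : Bor θ u d) (hP : ∀ g : Nm (P : Subgroup G), g ∈ PN (P : Subgroup G) ↔ ∃ a b, g = u a b) {m : ℕ} (hm : 1 ≤ m)
    (hF : Fintype.card F = 2 ^ (2 * m + 1))
    (hdeg : ∀ χ : IrrCharacter G, 0 < nu 2 (χ : G → ℂ) → nu 2 (χ : G → ℂ) < (Nat.card G).factorization 2 →
      charDegree (χ : G → ℂ) = 2 ^ m * (Fintype.card F - 1))
    (hex : ∃ χ : IrrCharacter G, charDegree (χ : G → ℂ) = 2 ^ m * (Fintype.card F - 1)) :
    Perm 2 (P : Subgroup G) := by
  have := Fintype.ofFinite (Nm (P : Subgroup G))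
  have := pn_normal (P : Subgroup G)
  intro h h0 h1
  have h2 : ∀ χ : IrrCharacter G, nu 2 (χ : G → ℂ) = h → IsIrrCharacter _ (rs (P : Subgroup G) χ) ∧
      fx B.Z (rs (P : Subgroup G) χ) = 0 := fun χ hχ => B.res hF hm χ.2 (hdeg χ (by omega) (by omega))
  have h3 : ∀ χ : IrrCharacter G, nu 2 (χ : G → ℂ) = h → ∀ ψ, mm (P : Subgroup G) χ ψ =
      classInner (rs (P : Subgroup G) χ) ψ := fun χ hχ ψ => by
    rw [mm_eq, sd_of_cusp (B.cusp hP (h2 χ hχ).1 (h2 χ hχ).2)]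
  refine ⟨fun χ hχ => ⟨⟨_, (h2 χ hχ).1⟩, hχ, ?_, fun ψ' _ h4 => ?_⟩, fun ψ hψ => ?_⟩
  · rw [h3 χ hχ]
    exact classInner_irr_self (h2 χ hχ).1
  · rw [h3 χ hχ]
    exact classInner_irr_ne (h2 χ hχ).1 ψ'.2 fun h5 => h4 (Subtype.ext h5.symm)
  · have h4 : fx B.Z (ψ : Nm (P : Subgroup G) → ℂ) = 0 := by
      by_contra h4
      have h5 := B.dvd_index (PN (P : Subgroup G)) (fun g hg => (hP g).1 hg) ψ.2 h4
      have h6 : nu 2 (ψ : Nm (P : Subgroup G) → ℂ) = 0 :=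
        Nat.factorization_eq_zero_of_not_dvd fun h6 => (sylN P).not_dvd_index (h6.trans h5)
      omega
    obtain ⟨χ, hχ⟩ : ∃ χ : IrrCharacter G, rs (P : Subgroup G) χ = ψ := by
      obtain ⟨χ, hχ⟩ := hex
      obtain ⟨h5, h6⟩ := B.res hF hm χ.2 hχ
      rcases B.eq_or_conj h5 h6 ψ.2 h4 with h7 | h7
      · exact ⟨χ, h7.symm⟩
      · exact ⟨⟨_, isIrr_conj χ.2⟩, h7.symm⟩
    have h5 : nu 2 (χ : G → ℂ) = h := by rw [← hψ, ← hχ]; rfl
    refine ⟨χ, h5, by rw [h3 χ h5, hχ, classInner_irr_self ψ.2], fun χ' h6 h7 => ?_⟩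
    rw [h3 χ' h6]
    exact classInner_irr_ne (h2 χ' h6).1 ψ.2 fun h8 => h7 (Subtype.ext
      (B.uniq hP hF hTI χ.2 χ'.2 (h2 χ h5).1 (h2 χ h5).2 (h8.trans hχ.symm)))

open LieRecognition.SzMatrix in
theorem perm_sz {F : Type} [Field F] [Fintype F] {m : ℕ} (hm : 1 ≤ m) (hF : Fintype.card F = 2 ^ (2 * m + 1)) :
    ∃ P : Sylow 2 ↥(Lie.Sz F (2 ^ (m + 1))), Perm 2 (P : Subgroup ↥(Lie.Sz F (2 ^ (m + 1)))) := by
  have H := good hF
  have D := S1163.data_sz H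
  have := S1162.result hm hF
  have hcF : Nat.card F = 2 ^ (2 * m + 1) := by rw [Nat.card_eq_fintype_card, hF]
  have hcu : Nat.card H.unip = 2 ^ ((2 * m + 1) * 2) := by rw [H.card_unip, hcF, ← pow_mul]
  have hcard := (S1163.result hm hF).1
  have hne : H.unip ≠ ⊥ := by
    intro h
    rw [h, Subgroup.card_bot] at hcu
    exact (Nat.one_lt_two_pow (by omega)).ne hcu
  have hnorm : Nm H.unip = H.borel := D.normalizer_eq hne
  obtain ⟨k, hk⟩ : ∃ k, k = 2 ^ (m - 1) := ⟨_, rfl⟩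
  have hk2 : 2 ^ m = 2 * k := by
    rw [hk, ← pow_succ']
    congr 1
    omega
  have hq : 2 ^ (2 * m + 1) = 8 * k ^ 2 := by
    rw [pow_succ, pow_mul', hk2]
    ring
  have hk0 : 0 < k := by rw [hk]; positivity
  have hk1 : 4 * k ≤ 8 * k ^ 2 := by nlinarith
  have hidxS : ¬ 2 ∣ H.unip.index := by
    have h1 := Subgroup.card_mul_index H.unip
    rw [hcard, hcu, pow_mul, mul_assoc] at h1
    rw [Nat.eq_of_mul_eq_mul_left (by positivity) h1, Nat.Prime.dvd_mul Nat.prime_two, hq, mul_pow]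
    omega
  let P : Sylow 2 ↥(Lie.Sz F (2 ^ (m + 1))) := (IsPGroup.of_card hcu).toSylow hidxS
  have hv : (Nat.card ↥(Lie.Sz F (2 ^ (m + 1)))).factorization 2 = (2 * m + 1) * 2 :=
    Nat.pow_right_injective le_rfl (P.card_eq_multiplicity.symm.trans hcu)
  have hdeg := H678.SuzGraph.mem_charDegrees hm hF ⟨MulEquiv.refl _⟩ k (8 * k ^ 2 - 1) _ (8 * k ^ 2 + 1 - 4 * k) hk
    (by omega) rfl (by omega)
  refine ⟨P, perm_of_bor P (fun g hg t ht h => ?_) (θ := theta hF)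
    (u := fun a b => (⟨H.u a b, hnorm ▸ H.u_mem_borel a b⟩ : Nm H.unip))
    (d := fun k => (⟨H.d k, hnorm ▸ H.d_mem_borel k⟩ : Nm H.unip))
    ⟨H.two, H.sq, fun a b c e => Subtype.ext (H.u_mul a b c e), fun a b c e h => H.u_inj (congrArg Subtype.val h),
      fun k a b => Subtype.ext (H.d_mul_u k a b), Subtype.ext H.d_one, fun g => ?_, ?_⟩ (fun g => ?_) hm hF
    (fun χ h0 h1 => ?_) ?_⟩
  · obtain ⟨s, hs, h1⟩ := D.bruhat g (hnorm ▸ hg)
    have h2 := D.inter (s⁻¹ * (g * t * g⁻¹) * s) (H.unip.mul_mem (H.unip.mul_mem (H.unip.inv_mem hs) h) hs) (by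
      have h3 := H.borel.mul_mem (H.borel.mul_mem h1 (D.le ht)) (H.borel.inv_mem h1)
      rwa [show (s * H.w)⁻¹ * g * t * ((s * H.w)⁻¹ * g)⁻¹ = H.w⁻¹ * (s⁻¹ * (g * t * g⁻¹) * s) * H.w by group] at h3)
    rw [show t = g⁻¹ * (s * (s⁻¹ * (g * t * g⁻¹) * s) * s⁻¹) * g by group, h2]
    group
  · obtain ⟨a, b, k, h⟩ := (H.mem_borel_iff' g).1 (hnorm ▸ g.2)
    exact ⟨a, b, k, Subtype.ext h⟩
  · rw [← H.card_borel, ← hnorm]
    rfl
  · refine (H.mem_unip_iff g).trans ?_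
    exact ⟨fun ⟨a, b, h⟩ => ⟨a, b, Subtype.ext h⟩, fun ⟨a, b, h⟩ => ⟨a, b, congrArg Subtype.val h⟩⟩
  · have h2 : 2 ∣ charDegree (χ : ↥(Lie.Sz F (2 ^ (m + 1))) → ℂ) := by
      by_contra h2
      rw [nu, Nat.factorization_eq_zero_of_not_dvd h2] at h0
      omega
    rcases (hdeg _).1 ⟨χ, rfl⟩ with h | h | h | h | h | h
    · omega
    · rw [nu, h, hv, show 64 * k ^ 4 = 2 ^ ((2 * m + 1) * 2) by rw [pow_mul, hq]; ring,
        Nat.prime_two.factorization_pow, Finsupp.single_eq_same] at h1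
      omega
    · omega
    · rw [h, Nat.Prime.dvd_mul Nat.prime_two] at h2
      omega
    · rw [h, Nat.Prime.dvd_mul Nat.prime_two] at h2
      omega
    · rw [h, hF, hq, hk2, mul_comm]
  · obtain ⟨χ, hχ⟩ := (hdeg ((8 * k ^ 2 - 1) * (2 * k))).2 (by simp)
    exact ⟨χ, by rw [hχ, hF, hq, hk2, mul_comm]⟩

/-- **The row `Sz(q)`.** -/
theorem ssz : SSz.{u} := by
  refine srow_of_perm (fun p S _ => p = 2 ∧ Lie.IsoSuzuki S) ?_ ?_
  · rintro p _ S _ ⟨rfl, F, _, _, m, hm, hF, ⟨e⟩⟩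
    exact (H476.TI.fit_sz hm hF).congr e.toEquiv
  · rintro p hp H S _ _ _ π P hcov ⟨rfl, F, _, _, m, hm, hF, ⟨e⟩⟩ - - -
    have hker : (e.toMonoidHom.comp π).ker = π.ker := by
      ext x
      exact e.map_eq_one_iff
    have hs : Function.Surjective (e.toMonoidHom.comp π) := e.surjective.comp hcov.surj
    have hc : (e.toMonoidHom.comp π).ker ≤ Subgroup.center H := hker ▸ hcov.cen
    have hinj : Function.Injective (e.toMonoidHom.comp π) := by
      by_cases h2 : 2 ≤ m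
      · exact H95.StemCover.injective_of_trivial (S2111.result h2 hF) hcov.perf _ hs hc
      · obtain rfl : m = 1 := by omega
        have h3 := H95.StemCover.card_ker_dvd (S2112.result (F := F) hF) hcov.perf _ hs hc
        rw [Nat.card_congr Multiplicative.toAdd, Nat.card_prod, Nat.card_zmod, hker] at h3
        rw [← MonoidHom.ker_eq_bot_iff, hker, ← Subgroup.card_eq_one]
        exact Nat.eq_one_of_dvd_coprimes
          (Nat.Coprime.mul_left ((Nat.Prime.coprime_iff_not_dvd Nat.prime_two).2 hcov.cop)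
            ((Nat.Prime.coprime_iff_not_dvd Nat.prime_two).2 hcov.cop)) h3 dvd_rfl
    let f := (MulEquiv.ofBijective (e.toMonoidHom.comp π) ⟨hinj, hs⟩).symm
    have hk : f.toMonoidHom.ker = ⊥ := (MonoidHom.ker_eq_bot_iff _).2 f.injective
    obtain ⟨P₀, hP₀⟩ := perm_sz hm hF
    exact perm_of_cover f.toMonoidHom f.surjective (hk ▸ bot_le) (by rw [hk, Subgroup.card_bot]; omega) P₀ hP₀ P

end Cfsg.Agent.TID.Syl
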