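import Mathlib
import Cfsg.Agent.TID.Syl.Cover
import Cfsg.Agent.S4765
import Cfsg.Agent.S2086
import Cfsg.Agent.LieClassical.SLTwoUnipotent
import Cfsg.Agent.H93.PslCharpoly
import Cfsg.Agent.H259.NatMod
import Cfsg.Agent.H95.StemCover

/-!
# S4622, the row `PSL₂(q)` (helper1)
-/

set_option autoImplicit false
set_option linter.unusedSectionVars false

namespace Cfsg.Agent.TID.Syl

open Cfsg Cfsg.Agent.Characters.Core
open Cfsg.Agent.LieClassical.SLTwoUnipotent

universe u

variable {p : ℕ} [hp : Fact p.Prime] {F : Type} [Field F] [Fintype F] [CharP F p]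

theorem perm_sl2 : Perm p (upperUnipSylowSL F p : Subgroup (Matrix.SpecialLinearGroup (Fin 2) F)) := by
  intro h h0 h1
  refine permAt_of_empty (fun χ hχ => ?_) (fun ψ hψ => ?_)
  · have h2 : p ∣ charDegree (χ : Matrix.SpecialLinearGroup (Fin 2) F → ℂ) := by
      by_contra h3
      unfold nu at hχ
      rw [Nat.factorization_eq_zero_of_not_dvd h3] at hχ
      omega
    have h3 := H672.charDegree_of_eq (S4765.degree_of_dvd χ.2 h2)
    have h4 := (upperUnipSylowSL F p).card_eq_multiplicity
    rw [coe_upperUnipSylowSL, card_upperUnipSL, Nat.card_eq_fintype_card] at h4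
    unfold nu at hχ
    rw [h3, h4, hp.out.factorization_pow, Finsupp.single_eq_same] at hχ
    omega
  · have h2 := nu_zero_of_comm (upperUnipSylowSL F p) (fun x hx y hy => by
      obtain ⟨a, rfl⟩ := mem_upperUnipSL_iff_exists.1 hx
      obtain ⟨b, rfl⟩ := mem_upperUnipSL_iff_exists.1 hy
      rw [← u_add, ← u_add, add_comm]) ψ.2
    omega

theorem not_dvd_center : ¬ p ∣ Nat.card (Subgroup.center (Matrix.SpecialLinearGroup (Fin 2) F)) := by
  rw [H93.PslCharpoly.card_center 2 (by norm_num), Nat.card_eq_fintype_card]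
  intro h
  obtain ⟨n, -, hn⟩ := FiniteField.card F p
  have h1 : p ∣ Fintype.card F := by rw [hn]; exact dvd_pow_self p n.ne_zero
  have h2 := Nat.dvd_sub h1 (h.trans (Nat.gcd_dvd_right _ _))
  rw [Nat.sub_sub_self Fintype.card_pos] at h2
  exact hp.out.one_lt.ne' (Nat.dvd_one.1 h2)

theorem fact_psl2 {n : ℕ} (hn : Fintype.card F = p ^ n) :
    (Nat.card (Matrix.ProjectiveSpecialLinearGroup (Fin 2) F)).factorization p = n := by
  have h4 := (upperUnipSylowSL F p).card_eq_multiplicity
  rw [coe_upperUnipSylowSL, card_upperUnipSL, Nat.card_eq_fintype_card, hn,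
    ← Subgroup.card_mul_index (Subgroup.center (Matrix.SpecialLinearGroup (Fin 2) F)),
    Nat.factorization_mul Nat.card_pos.ne' Subgroup.index_ne_zero_of_finite, Finsupp.add_apply,
    Nat.factorization_eq_zero_of_not_dvd not_dvd_center, zero_add] at h4
  exact (Nat.pow_right_injective hp.out.two_le h4).symm

/-- **The row `PSL₂(q)`.** -/
theorem sl2 : SL2.{u} := by
  refine srow_of_perm (fun p S _ => ∃ (F : Type) (_ : Field F) (_ : Fintype F), CharP F p ∧
    Nonempty (S ≃* Matrix.ProjectiveSpecialLinearGroup (Fin 2) F)) ?_ ?_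
  · rintro p _ S _ ⟨F, _, _, _, ⟨e⟩⟩
    obtain ⟨n, -, hn⟩ := FiniteField.card F p
    exact (H476.TI.fit_psl2 (n := n) n.pos hn).congr e.toEquiv
  · rintro p hp H S _ _ _ π P hcov ⟨F, _, _, _, ⟨e⟩⟩ hTI - -
    by_cases h2 : (Nat.card H).factorization p ≤ 2
    · exact perm_of_small P hTI h2
    obtain ⟨n, -, hn⟩ := FiniteField.card F p
    rw [hcov.fact, Nat.card_congr e.toEquiv, fact_psl2 hn] at h2
    have h8 : 2 ^ 3 ≤ Fintype.card F := by
      rw [hn]
      exact (Nat.pow_le_pow_left hp.out.two_le 3).trans (Nat.pow_le_pow_right hp.out.pos (by omega))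
    have h9 : Fintype.card F ≠ 9 := by
      intro h
      rw [hn] at h
      have h3 : p = 3 := (Nat.prime_dvd_prime_iff_eq hp.out Nat.prime_three).1
        (hp.out.dvd_of_dvd_pow (n := 2) (by rw [show 3 ^ 2 = 9 from rfl, ← h]; exact dvd_pow_self p n.ne_zero))
      subst h3
      have h4 : (n : ℕ) = 2 := Nat.pow_right_injective (by norm_num : 2 ≤ 3) h
      omega
    have hM := S2086.result (F := F) rfl 2 le_rfl (fun _ => by omega) (by
      simp only [Set.mem_insert_iff, Set.mem_singleton_iff, Prod.mk.injEq]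
      omega)
    have hperf := H259.NatMod.commutator_eq_top (F := F) (by omega)
    let σ := QuotientGroup.mk' (Subgroup.center (Matrix.SpecialLinearGroup (Fin 2) F))
    have hσk : σ.ker = Subgroup.center (Matrix.SpecialLinearGroup (Fin 2) F) := QuotientGroup.ker_mk' _
    have hg : Nat.gcd 2 (Fintype.card F - 1) ≠ 0 := (Nat.gcd_pos_of_pos_left _ two_pos).ne'
    have : NeZero (Nat.gcd 2 (Fintype.card F - 1)) := ⟨hg⟩
    have hperf' : commutator (Matrix.ProjectiveSpecialLinearGroup (Fin 2) F) = ⊤ := by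
      have h1 := congrArg (Subgroup.map σ) hperf
      rw [commutator_def, Subgroup.map_commutator, Subgroup.map_top_of_surjective _ (QuotientGroup.mk'_surjective _)]
        at h1
      exact h1
    obtain ⟨φ, hφ, hφσ⟩ := H95.StemCover.exists_cover' hperf' hM σ
      (H95.StemCover.isStem hperf (QuotientGroup.mk'_surjective _) hσk.le)
      (by rw [hσk, H93.PslCharpoly.card_center 2 (by norm_num), Nat.card_eq_fintype_card,
        Nat.card_congr (Multiplicative.toAdd (α := ZMod _)), Nat.card_zmod])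
      hcov.perf (e.toMonoidHom.comp π) (e.surjective.comp hcov.surj) (fun x hx => hcov.cen (e.map_eq_one_iff.1 hx))
    have hk : φ.ker ≤ Subgroup.center (Matrix.SpecialLinearGroup (Fin 2) F) := by
      intro x hx
      rw [← hσk, MonoidHom.mem_ker, ← hφσ, MonoidHom.mem_ker.1 hx, map_one]
    exact perm_of_cover φ hφ hk (fun h => not_dvd_center (h.trans (Subgroup.card_dvd_of_le hk))) _ perm_sl2 P

end Cfsg.Agent.TID.Syl
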